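import Groth.Agent.Magnet.K949.Chart
import Mathlib.AlgebraicGeometry.Morphisms.FormallyUnramified

/-!
# Square-zero thickenings of affine schemes and the chart of `A(N)`
-/

set_option autoImplicit false
universe u
open CategoryTheory MonoidalCategory CartesianMonoidalCategory MonObj AlgebraicGeometry Limits Opposite

namespace K949.Thick

open K949.Pts K949.Chart

theorem isNilpotent_ker {R R' : Type u} [CommRing R] [CommRing R'] (φ : R →+* R')
    (hk : RingHom.ker φ ^ 2 = ⊥) : IsNilpotent (Spec.map (CommRingCat.ofHom φ)).ker := by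
  refine ⟨2, ?_⟩
  refine Scheme.IdealSheafData.ext_of_isAffine ?_
  rw [Scheme.IdealSheafData.ideal_pow, Pi.pow_apply, Scheme.Hom.ker_apply]
  change RingHom.ker (Spec.map (CommRingCat.ofHom φ)).appTop.hom ^ 2 = ⊥
  have h := Scheme.ΓSpecIso_inv_naturality (CommRingCat.ofHom φ)
  have h2 : (Spec.map (CommRingCat.ofHom φ)).appTop = (Scheme.ΓSpecIso (CommRingCat.of R)).hom ≫ CommRingCat.ofHom φ ≫
      (Scheme.ΓSpecIso (CommRingCat.of R')).inv := by
    rw [h, Iso.hom_inv_id_assoc]
  have h3 : Function.Injective (Scheme.ΓSpecIso (CommRingCat.of R)).hom.hom :=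
    (ConcreteCategory.bijective_of_isIso (Scheme.ΓSpecIso (CommRingCat.of R)).hom).1
  have h4 : Function.Injective (Scheme.ΓSpecIso (CommRingCat.of R')).inv.hom :=
    (ConcreteCategory.bijective_of_isIso (Scheme.ΓSpecIso (CommRingCat.of R')).inv).1
  rw [eq_bot_iff, pow_two, Ideal.mul_le]
  intro a ha b hb
  have key : ∀ c, c ∈ RingHom.ker (Spec.map (CommRingCat.ofHom φ)).appTop.hom →
      (Scheme.ΓSpecIso (CommRingCat.of R)).hom.hom c ∈ RingHom.ker φ := by
    intro c hc
    rw [RingHom.mem_ker, h2] at hc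
    rw [RingHom.mem_ker]
    apply h4
    rw [map_zero]
    exact hc
  rw [Ideal.mem_bot]
  apply h3
  rw [map_mul, map_zero]
  have h5 := Ideal.mul_mem_mul (key a ha) (key b hb)
  rw [← pow_two, hk, Ideal.mem_bot] at h5
  exact h5

/-- Uniqueness of lifts for formally unramified morphisms against surjections of rings with square-zero kernel. -/
theorem hom_ext_spec {X Y : Scheme.{u}} (f : X ⟶ Y) [FormallyUnramified f] {R R' : Type u} [CommRing R] [CommRing R']
    (φ : R →+* R') (hφ : Function.Surjective φ) (hk : RingHom.ker φ ^ 2 = ⊥)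
    {g₁ g₂ : Spec (CommRingCat.of R) ⟶ X}
    (h1 : Spec.map (CommRingCat.ofHom φ) ≫ g₁ = Spec.map (CommRingCat.ofHom φ) ≫ g₂) (h2 : g₁ ≫ f = g₂ ≫ f) :
    g₁ = g₂ := by
  have : IsClosedImmersion (Spec.map (CommRingCat.ofHom φ)) := IsClosedImmersion.spec_of_surjective _ hφ
  exact FormallyUnramified.hom_ext (Spec.map (CommRingCat.ofHom φ)) (isNilpotent_ker φ hk) f h1 h2

theorem mapRingHom_surjective {R R' : Type u} [CommRing R] [CommRing R'] (N : Type) [AddCommMonoid N] (φ : R →+* R')
    (hφ : Function.Surjective φ) : Function.Surjective (MonoidAlgebra.mapRingHom (Multiplicative N) φ) := by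
  intro y
  induction y using MonoidAlgebra.induction_linear with
  | zero => exact ⟨0, map_zero _⟩
  | add y z hy hz =>
    obtain ⟨a, ha⟩ := hy
    obtain ⟨b, hb⟩ := hz
    exact ⟨a + b, by rw [map_add, ha, hb]⟩
  | single n r =>
    obtain ⟨s, hs⟩ := hφ r
    exact ⟨MonoidAlgebra.single n s, by rw [MonoidAlgebra.mapRingHom_single, hs]⟩

theorem ker_mapRingHom_sq {R R' : Type u} [CommRing R] [CommRing R'] (N : Type) [AddCommMonoid N] (φ : R →+* R')
    (hk : RingHom.ker φ ^ 2 = ⊥) : RingHom.ker (MonoidAlgebra.mapRingHom (Multiplicative N) φ) ^ 2 = ⊥ := by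
  rw [eq_bot_iff, pow_two, Ideal.mul_le]
  intro a ha b hb
  rw [RingHom.mem_ker] at ha hb
  have key : ∀ c : MonoidAlgebra R (Multiplicative N), MonoidAlgebra.mapRingHom (Multiplicative N) φ c = 0 →
      ∀ n, c.coeff n ∈ RingHom.ker φ := by
    intro c hc n
    rw [RingHom.mem_ker, ← MonoidAlgebra.coeff_mapRingHom, hc]
    rfl
  rw [Ideal.mem_bot, MonoidAlgebra.mul_def]
  refine Finset.sum_eq_zero fun n _ => Finset.sum_eq_zero fun m _ => ?_
  have h5 := Ideal.mul_mem_mul (key a ha n) (key b hb m)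
  rw [← pow_two, hk, Ideal.mem_bot] at h5
  beta_reduce
  rw [h5, MonoidAlgebra.single_zero]

section

variable {S : Scheme.{u}} {A A' : Type u} [CommRing A] [CommRing A'] (φ : A →+* A') (t : Spec (CommRingCat.of A) ⟶ S)

/-- The morphism over `S` attached to a ring map. -/
noncomputable abbrev ov : Over.mk (Spec.map (CommRingCat.ofHom φ) ≫ t) ⟶ Over.mk t :=
  Over.homMk (Spec.map (CommRingCat.ofHom φ)) rfl

/-- The chart is natural in the ring. -/
theorem whisker_chart (N : Type) [AddCommMonoid N] :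
    ((Magnet.AMonS S N ◁ ov φ t) ≫ (chart t N).hom).left =
      (chart (Spec.map (CommRingCat.ofHom φ) ≫ t) N).hom.left ≫
        Spec.map (CommRingCat.ofHom (MonoidAlgebra.mapRingHom (Multiplicative N) φ)) := by
  have e : Magnet.AMonS S N ◁ ov φ t = lift (fst _ _) (snd _ _ ≫ ov φ t) := by
    apply CartesianMonoidalCategory.hom_ext <;> simp
  rw [e]
  apply toRing_injective (B := MA A N)
  have h1 := toRing_chartHom t N (fst (Magnet.AMonS S N) (Over.mk (Spec.map (CommRingCat.ofHom φ) ≫ t)))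
    (snd _ _ ≫ ov φ t)
  refine h1.trans ?_
  have h2 := toRing_SpecMap (B := MA A' N) (chart (Spec.map (CommRingCat.ofHom φ) ≫ t) N).hom.left
    (MonoidAlgebra.mapRingHom (Multiplicative N) φ)
  refine Eq.trans ?_ h2.symm
  have h3 := toRing_chartHom (Spec.map (CommRingCat.ofHom φ) ≫ t) N
    (fst (Magnet.AMonS S N) (Over.mk (Spec.map (CommRingCat.ofHom φ) ≫ t))) (snd _ _)
  rw [lift_fst_snd, Category.id_comp] at h3
  rw [chart_hom, h3]
  have h4 : rho t (snd (Magnet.AMonS S N) (Over.mk (Spec.map (CommRingCat.ofHom φ) ≫ t)) ≫ ov φ t) =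
      (rho (Spec.map (CommRingCat.ofHom φ) ≫ t) (snd _ _)).comp φ :=
    toRing_SpecMap (B := A') _ φ
  apply ma_ringHom_ext
  · rw [mRing_comp_algebraMap, h4]
    ext a
    simp [MonoidAlgebra.coe_algebraMap]
  · intro n
    simp

end

end K949.Thick
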