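import Groth.Agent.FlatB.PushSpec
import Groth.Agent.Magnet.K949.Thick

/-!
# Fibre products of rings along surjections and pushouts over `S`, compatibly with `A(M) ⊗ -`
-/

set_option autoImplicit false
universe u
open CategoryTheory MonoidalCategory CartesianMonoidalCategory MonObj AlgebraicGeometry Limits Opposite

namespace K949.Fib

open K949.Pts K949.Chart K949.Thick Groth.Agent.FlatB.PushRing

/-- `E = A' ×_A B` elementwise. -/
structure IsFib {E A' B A : Type u} [CommRing E] [CommRing A'] [CommRing B] [CommRing A]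
    (α : E →+* A') (β : E →+* B) (p : A' →+* A) (q : B →+* A) : Prop where
  comm : p.comp α = q.comp β
  inj : ∀ e, α e = 0 → β e = 0 → e = 0
  surj : ∀ a b, p a = q b → ∃ e, α e = a ∧ β e = b

theorem isFib_eqL {A' B A : Type u} [CommRing A'] [CommRing B] [CommRing A] (p : A' →+* A) (q : B →+* A) :
    IsFib (eqL.fst p q) (eqL.snd p q) p q where
  comm := eqL.comm
  inj e h1 h2 := eqL.ext h1 h2
  surj a b h := ⟨⟨(a, b), h⟩, rfl, rfl⟩

section

variable {E A' B A : Type u} [CommRing E] [CommRing A'] [CommRing B] [CommRing A]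
  {α : E →+* A'} {β : E →+* B} {p : A' →+* A} {q : B →+* A}

theorem IsFib.isPushout (h : IsFib α β p q) (hp : Function.Surjective p) :
    IsPushout (Spec.map (CommRingCat.ofHom p)) (Spec.map (CommRingCat.ofHom q))
      (Spec.map (CommRingCat.ofHom α)) (Spec.map (CommRingCat.ofHom β)) := by
  let e : E →+* eqL p q := eqL.lift α β h.comm
  have he : Function.Bijective e := by
    constructor
    · rw [injective_iff_map_eq_zero]
      intro x hx
      exact h.inj x congr(($hx).1.1) congr(($hx).1.2)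
    · rintro ⟨⟨a, b⟩, hab⟩
      obtain ⟨x, h1, h2⟩ := h.surj a b hab
      exact ⟨x, eqL.ext h1 h2⟩
  have hi : IsIso (CommRingCat.ofHom e) := (RingEquiv.ofBijective e he).toCommRingCatIso.isIso_hom
  have hi2 : IsIso (Spec.map (CommRingCat.ofHom e)) := inferInstance
  refine IsPushout.of_iso (Groth.Agent.FlatB.PushSpec.isPushout_Spec (p := p) (q := q) hp)
    (Iso.refl _) (Iso.refl _) (Iso.refl _) (asIso (Spec.map (CommRingCat.ofHom e))) (by simp) (by simp) ?_ ?_
  · rw [asIso_hom, Iso.refl_hom, Category.id_comp, ← Spec.map_comp, ← CommRingCat.ofHom_comp]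
    rfl
  · rw [asIso_hom, Iso.refl_hom, Category.id_comp, ← Spec.map_comp, ← CommRingCat.ofHom_comp]
    rfl

theorem IsFib.monoidAlgebra (h : IsFib α β p q) (M : Type) [AddCommMonoid M] :
    IsFib (MonoidAlgebra.mapRingHom (Multiplicative M) α) (MonoidAlgebra.mapRingHom (Multiplicative M) β)
      (MonoidAlgebra.mapRingHom (Multiplicative M) p) (MonoidAlgebra.mapRingHom (Multiplicative M) q) where
  comm := by
    rw [← MonoidAlgebra.mapRingHom_comp, ← MonoidAlgebra.mapRingHom_comp, h.comm]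
  inj e h1 h2 := by
    ext m
    refine h.inj _ ?_ ?_
    · rw [← MonoidAlgebra.coeff_mapRingHom, h1]; rfl
    · rw [← MonoidAlgebra.coeff_mapRingHom, h2]; rfl
  surj a b hab := by
    have key : ∀ m, p (a.coeff m) = q (b.coeff m) := by
      intro m
      rw [← MonoidAlgebra.coeff_mapRingHom, ← MonoidAlgebra.coeff_mapRingHom, hab]
    choose f hf1 hf2 using fun m => h.surj _ _ (key m)
    classical
    have hfin : ∀ m, m ∉ a.coeff.support ∪ b.coeff.support → f m = 0 := by
      intro m hm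
      rw [Finset.mem_union, not_or, Finsupp.notMem_support_iff, Finsupp.notMem_support_iff] at hm
      exact h.inj _ ((hf1 m).trans hm.1) ((hf2 m).trans hm.2)
    refine ⟨MonoidAlgebra.ofCoeff (Finsupp.onFinset (a.coeff.support ∪ b.coeff.support) f
      (fun m hm => by by_contra h; exact hm (hfin m h))), ?_, ?_⟩
    · ext m
      rw [MonoidAlgebra.coeff_mapRingHom]
      exact hf1 m
    · ext m
      rw [MonoidAlgebra.coeff_mapRingHom]
      exact hf2 m

end

/-! ### Pushouts over `S` -/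

section OverS

variable {S : Scheme.{u}} {E A' B A : Type u} [CommRing E] [CommRing A'] [CommRing B] [CommRing A]
  {α : E →+* A'} {β : E →+* B} {p : A' →+* A} {q : B →+* A}

/-- A square over `S` which is a pushout in schemes is a pushout over `S`. -/
theorem isPushout_over {P₁ P₂ P₃ P₄ : Over S} {a : P₁ ⟶ P₂} {b : P₁ ⟶ P₃} {c : P₂ ⟶ P₄} {d : P₃ ⟶ P₄}
    (h : IsPushout a.left b.left c.left d.left) : IsPushout a b c d := by
  refine IsPushout.of_map (Over.forget S) ?_ h
  ext1
  exact h.w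

/-- general form of `whisker_chart` -/
theorem whisker_chart_of {R R' : Type u} [CommRing R] [CommRing R'] {t : Spec (CommRingCat.of R) ⟶ S}
    {t' : Spec (CommRingCat.of R') ⟶ S} (w : Over.mk t' ⟶ Over.mk t) (φ : R →+* R')
    (hw : w.left = Spec.map (CommRingCat.ofHom φ)) (N : Type) [AddCommMonoid N] :
    ((Magnet.AMonS S N ◁ w) ≫ (chart t N).hom).left = (chart t' N).hom.left ≫
      Spec.map (CommRingCat.ofHom (MonoidAlgebra.mapRingHom (Multiplicative N) φ)) := by
  have h : Spec.map (CommRingCat.ofHom φ) ≫ t = t' := by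
    rw [← hw]; exact Over.w w
  subst h
  obtain rfl : w = ov φ t := by ext1; exact hw
  exact whisker_chart φ t N

theorem IsFib.isPushout_over (h : IsFib α β p q) (hp : Function.Surjective p)
    {t₁ : Spec (CommRingCat.of A) ⟶ S} {t₂ : Spec (CommRingCat.of A') ⟶ S} {t₃ : Spec (CommRingCat.of B) ⟶ S}
    {t₄ : Spec (CommRingCat.of E) ⟶ S}
    (a : Over.mk t₁ ⟶ Over.mk t₂) (b : Over.mk t₁ ⟶ Over.mk t₃) (c : Over.mk t₂ ⟶ Over.mk t₄)
    (d : Over.mk t₃ ⟶ Over.mk t₄) (ha : a.left = Spec.map (CommRingCat.ofHom p))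
    (hb : b.left = Spec.map (CommRingCat.ofHom q)) (hc : c.left = Spec.map (CommRingCat.ofHom α))
    (hd : d.left = Spec.map (CommRingCat.ofHom β)) : IsPushout a b c d := by
  apply K949.Fib.isPushout_over
  rw [ha, hb, hc, hd]
  exact h.isPushout hp

theorem IsFib.isPushout_whisker (h : IsFib α β p q) (hp : Function.Surjective p)
    {t₁ : Spec (CommRingCat.of A) ⟶ S} {t₂ : Spec (CommRingCat.of A') ⟶ S} {t₃ : Spec (CommRingCat.of B) ⟶ S}
    {t₄ : Spec (CommRingCat.of E) ⟶ S}
    (a : Over.mk t₁ ⟶ Over.mk t₂) (b : Over.mk t₁ ⟶ Over.mk t₃) (c : Over.mk t₂ ⟶ Over.mk t₄)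
    (d : Over.mk t₃ ⟶ Over.mk t₄) (ha : a.left = Spec.map (CommRingCat.ofHom p))
    (hb : b.left = Spec.map (CommRingCat.ofHom q)) (hc : c.left = Spec.map (CommRingCat.ofHom α))
    (hd : d.left = Spec.map (CommRingCat.ofHom β)) (M : Type) [AddCommMonoid M] :
    IsPushout (Magnet.AMonS S M ◁ a) (Magnet.AMonS S M ◁ b) (Magnet.AMonS S M ◁ c) (Magnet.AMonS S M ◁ d) := by
  apply K949.Fib.isPushout_over
  have h1 := (h.monoidAlgebra M).isPushout (mapRingHom_surjective M p hp)
  have e : ∀ {R : Type u} [CommRing R] (t : Spec (CommRingCat.of R) ⟶ S),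
    IsIso (chart t M).hom.left := fun t => inferInstance
  refine IsPushout.of_iso h1 (asIso (chart t₁ M).hom.left).symm (asIso (chart t₂ M).hom.left).symm
    (asIso (chart t₃ M).hom.left).symm (asIso (chart t₄ M).hom.left).symm ?_ ?_ ?_ ?_
  · rw [Iso.symm_hom, Iso.symm_hom, asIso_inv, asIso_inv, IsIso.eq_inv_comp, ← Category.assoc, IsIso.comp_inv_eq,
      ← whisker_chart_of a p ha M]
    rfl
  · rw [Iso.symm_hom, Iso.symm_hom, asIso_inv, asIso_inv, IsIso.eq_inv_comp, ← Category.assoc, IsIso.comp_inv_eq,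
      ← whisker_chart_of b q hb M]
    rfl
  · rw [Iso.symm_hom, Iso.symm_hom, asIso_inv, asIso_inv, IsIso.eq_inv_comp, ← Category.assoc, IsIso.comp_inv_eq,
      ← whisker_chart_of c α hc M]
    rfl
  · rw [Iso.symm_hom, Iso.symm_hom, asIso_inv, asIso_inv, IsIso.eq_inv_comp, ← Category.assoc, IsIso.comp_inv_eq,
      ← whisker_chart_of d β hd M]
    rfl

end OverS

end K949.Fib
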