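import Groth.Agent.Magnet.K949.Fib

/-!
# Averaging of morphisms `A(M) ⊗ P ⟶ X` which are constant modulo a square-zero ideal
-/

set_option autoImplicit false
universe u
open CategoryTheory MonoidalCategory CartesianMonoidalCategory MonObj AlgebraicGeometry Limits Opposite

namespace K949.Avg

open K949.Pts K949.Chart K949.Thick K949.Fib Groth.Agent.FlatB.PushRing Magnet

section Ring

variable {B B₀ : Type u} [CommRing B] [CommRing B₀] (π : B →+* B₀) (M : Type) [AddCommMonoid M]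

/-- The ring of elements of `B[M]` which are constant in `B₀[M]`. -/
abbrev ER : Type u := eqL (MonoidAlgebra.mapRingHom (Multiplicative M) π) (algebraMap B₀ (MA B₀ M))

/-- the structure map -/
noncomputable def toER : B →+* ER π M := eqL.lift (algebraMap B (MA B M)) π (by
  ext b
  simp [MonoidAlgebra.coe_algebraMap])

variable {π M}

theorem coeff_one_snd (x : ER π M) : π (x.1.1.coeff 1) = x.1.2 := by
  have h := congrArg (fun c : MA B₀ M => c.coeff 1) (eqL_prop x)
  simpa [MonoidAlgebra.coe_algebraMap] using h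

theorem decomp (x : ER π M) : ∃ x' : MA B M, x.1.1 = MonoidAlgebra.single 1 (x.1.1.coeff 1) + x' ∧
    x' ∈ RingHom.ker (MonoidAlgebra.mapRingHom (Multiplicative M) π) ∧ x'.coeff 1 = 0 := by
  refine ⟨x.1.1 - MonoidAlgebra.single 1 (x.1.1.coeff 1), by abel, ?_, ?_⟩
  · rw [RingHom.mem_ker, map_sub, MonoidAlgebra.mapRingHom_single, coeff_one_snd, eqL_prop x,
      MonoidAlgebra.coe_algebraMap]
    simp
  · simp

variable (π M) in
/-- The average: the coefficient of `1`. -/
noncomputable def avg (hk : RingHom.ker π ^ 2 = ⊥) : ER π M →+* B where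
  toFun x := x.1.1.coeff 1
  map_one' := by simp [MonoidAlgebra.one_def]
  map_zero' := rfl
  map_add' x y := rfl
  map_mul' x y := by
    obtain ⟨x', hx, hx1, hx2⟩ := decomp x
    obtain ⟨y', hy, hy1, hy2⟩ := decomp y
    have h0 : x' * y' = 0 := by
      have h := Ideal.mul_mem_mul hx1 hy1
      rwa [← pow_two, ker_mapRingHom_sq M π hk, Ideal.mem_bot] at h
    have h1 : (x * y).1.1 = x.1.1 * y.1.1 := rfl
    rw [h1, hx, hy, add_mul, mul_add, mul_add, h0, add_zero]
    simp [hx2, hy2, MonoidAlgebra.coeff_single_one_mul, MonoidAlgebra.coeff_mul_single_one]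

@[simp] theorem avg_apply (hk : RingHom.ker π ^ 2 = ⊥) (x : ER π M) : avg π M hk x = x.1.1.coeff 1 := rfl

theorem avg_comp_toER (hk : RingHom.ker π ^ 2 = ⊥) : (avg π M hk).comp (toER π M) = RingHom.id B := by
  ext b
  simp [toER, MonoidAlgebra.coe_algebraMap]

theorem comp_avg (hk : RingHom.ker π ^ 2 = ⊥) : π.comp (avg π M hk) = eqL.snd _ _ := by
  ext x
  exact coeff_one_snd x

theorem fst_comp_toER : (eqL.fst _ _).comp (toER π M) = algebraMap B (MA B M) := rfl
theorem snd_comp_toER : (eqL.snd _ _).comp (toER π M) = π := rfl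

/-- The augmentation `R[M] → R`. -/
noncomputable def aug (R : Type u) [CommRing R] (M : Type) [AddCommMonoid M] : MA R M →+* R :=
  mRing M (RingHom.id R) 1

theorem aug_comp_fst (x : ER π M) : π (aug B M x.1.1) = x.1.2 := by
  have h1 : π.comp (aug B M) = (aug B₀ M).comp (MonoidAlgebra.mapRingHom (Multiplicative M) π) := by
    apply ma_ringHom_ext
    · ext b
      simp [aug, MonoidAlgebra.coe_algebraMap]
    · intro n
      simp [aug]
  have h2 : π (aug B M x.1.1) = aug B₀ M (MonoidAlgebra.mapRingHom (Multiplicative M) π x.1.1) := congr($h1 x.1.1)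
  rw [h2, eqL_prop x, aug]
  exact congr($(mRing_comp_algebraMap M (RingHom.id B₀) 1) x.1.2)

end Ring

section Over

variable {B B₀ : Type u} [CommRing B] [CommRing B₀] (π : B →+* B₀) (M : Type) [AddCommMonoid M]
  {S : Scheme.{u}} (t : Spec (CommRingCat.of B) ⟶ S)

/-- `Spec` of `ER` over `S`. -/
noncomputable abbrev W : Over S := Over.mk (Spec.map (CommRingCat.ofHom (toER π M)) ≫ t)

/-- `A(M) ⊗ P ⟶ W` -/
noncomputable def nu : AMonS S M ⊗ Over.mk t ⟶ W π M t :=
  (chart t M).hom ≫ Over.homMk (Spec.map (CommRingCat.ofHom (eqL.fst _ _))) (by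
    change Spec.map _ ≫ Spec.map _ ≫ t = Spec.map _ ≫ t
    rw [← Spec.map_comp_assoc, ← CommRingCat.ofHom_comp]
    rfl)

/-- `P₀ ⟶ W` -/
noncomputable def nu0 : Over.mk (Spec.map (CommRingCat.ofHom π) ≫ t) ⟶ W π M t :=
  Over.homMk (Spec.map (CommRingCat.ofHom (eqL.snd _ _))) (by
    change Spec.map _ ≫ Spec.map _ ≫ t = Spec.map _ ≫ t
    rw [← Spec.map_comp_assoc, ← CommRingCat.ofHom_comp]
    rfl)

variable {π} in
/-- The section `P ⟶ W` given by the average. -/
noncomputable def sg (hk : RingHom.ker π ^ 2 = ⊥) : Over.mk t ⟶ W π M t :=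
  Over.homMk (Spec.map (CommRingCat.ofHom (avg π M hk))) (by
    change Spec.map _ ≫ Spec.map _ ≫ t = t
    rw [← Spec.map_comp_assoc, ← CommRingCat.ofHom_comp, avg_comp_toER]
    erw [Spec.map_id, Category.id_comp])

/-- `W ⟶ P` -/
noncomputable abbrev toP : W π M t ⟶ Over.mk t := ov (toER π M) t

theorem sg_toP (hk : RingHom.ker π ^ 2 = ⊥) : sg M t hk ≫ toP π M t = 𝟙 _ := by
  ext1
  change Spec.map _ ≫ Spec.map _ = 𝟙 _
  rw [← Spec.map_comp, ← CommRingCat.ofHom_comp, avg_comp_toER]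
  exact Spec.map_id _

theorem nu_toP : nu π M t ≫ toP π M t = snd _ _ := by
  have h : (Over.homMk (Spec.map (CommRingCat.ofHom (eqL.fst _ _))) (by
    change Spec.map _ ≫ Spec.map _ ≫ t = Spec.map _ ≫ t
    rw [← Spec.map_comp_assoc, ← CommRingCat.ofHom_comp]
    rfl) : aff t (MA B M) ⟶ W π M t) ≫ toP π M t = affTo t (MA B M) := by
    ext1
    change Spec.map _ ≫ Spec.map _ = Spec.map _
    rw [← Spec.map_comp, ← CommRingCat.ofHom_comp]
    rfl
  rw [nu, Category.assoc, h, chart_hom, chartHom, affPt_affTo]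

theorem ov_sg (hk : RingHom.ker π ^ 2 = ⊥) : ov π t ≫ sg M t hk = nu0 π M t := by
  ext1
  change Spec.map _ ≫ Spec.map _ = Spec.map _
  rw [← Spec.map_comp, ← CommRingCat.ofHom_comp, comp_avg]

theorem isPushout_W (hπ : Function.Surjective π) :
    IsPushout (AMonS S M ◁ ov π t) (snd (AMonS S M) _) (nu π M t) (nu0 π M t) := by
  apply K949.Fib.isPushout_over
  have h1 := (isFib_eqL (MonoidAlgebra.mapRingHom (Multiplicative M) π) (algebraMap B₀ (MA B₀ M))).isPushout
    (mapRingHom_surjective M π hπ)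
  refine IsPushout.of_iso h1 (asIso (chart _ M).hom.left).symm (asIso (chart t M).hom.left).symm
    (Iso.refl _) (Iso.refl _) ?_ ?_ ?_ ?_
  · rw [Iso.symm_hom, Iso.symm_hom, asIso_inv, asIso_inv, IsIso.eq_inv_comp, ← Category.assoc, IsIso.comp_inv_eq,
      ← whisker_chart_of (ov π t) π rfl M]
    rfl
  · rw [Iso.symm_hom, asIso_inv, IsIso.eq_inv_comp, Iso.refl_hom, Category.comp_id]
    have h2 : (chart (Spec.map (CommRingCat.ofHom π) ≫ t) M).hom ≫ affTo _ (MA B₀ M) = snd _ _ := by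
      rw [chart_hom, chartHom, affPt_affTo]
    rw [← h2]
    rfl
  · rw [Iso.symm_hom, asIso_inv, IsIso.eq_inv_comp, Iso.refl_hom, Category.comp_id]
    rfl
  · rw [Iso.refl_hom, Iso.refl_hom, Category.comp_id]
    erw [Category.id_comp]
    rfl

theorem nu0_eq : nu0 π M t = lift (1 : _ ⟶ AMonS S M) (ov π t) ≫ nu π M t := by
  ext1
  apply toRing_injective (B := ER π M)
  have h1 : toRing (B := ER π M) (lift (1 : _ ⟶ AMonS S M) (ov π t) ≫ nu π M t).left =
      (toRing (B := MA B M) (lift (1 : _ ⟶ AMonS S M) (ov π t) ≫ chartHom t M).left).comp (eqL.fst _ _) :=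
    toRing_SpecMap (B := MA B M) (C := ER π M) (lift (1 : _ ⟶ AMonS S M) (ov π t) ≫ chartHom t M).left (eqL.fst _ _)
  have h2 : toRing (B := ER π M) (nu0 π M t).left =
      (toRing (B := B₀) (𝟙 (Spec (CommRingCat.of B₀)))).comp (eqL.snd _ _) := by
    refine Eq.trans ?_ (toRing_SpecMap (B := B₀) (C := ER π M) (𝟙 (Spec (CommRingCat.of B₀))) (eqL.snd _ _))
    rw [Category.id_comp]
    rfl
  have h3 : rho t (ov π t) = (toRing (B := B₀) (𝟙 (Spec (CommRingCat.of B₀)))).comp π := by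
    refine Eq.trans ?_ (toRing_SpecMap (B := B₀) (C := B) (𝟙 (Spec (CommRingCat.of B₀))) π)
    rw [Category.id_comp]
    rfl
  rw [h1, h2, toRing_chartHom, amChar_one, h3]
  refine RingHom.ext fun x => ?_
  have h4 : mRing M ((toRing (B := B₀) (𝟙 (Spec (CommRingCat.of B₀)))).comp π) 1 =
      ((toRing (B := B₀) (𝟙 (Spec (CommRingCat.of B₀)))).comp π).comp (aug B M) := by
    apply ma_ringHom_ext
    · rw [mRing_comp_algebraMap, RingHom.comp_assoc, aug, mRing_comp_algebraMap]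
      rfl
    · intro n
      simp [aug]
  rw [h4]
  exact congrArg (toRing (B := B₀) (𝟙 (Spec (CommRingCat.of B₀)))) (aug_comp_fst x).symm

variable {π t M} {X Y : Over S}

/-- `l` is the average of `v`. -/
def IsAvg (hk : RingHom.ker π ^ 2 = ⊥) (v : AMonS S M ⊗ Over.mk t ⟶ X) (l : Over.mk t ⟶ X) : Prop :=
  ∃ v' : W π M t ⟶ X, nu π M t ≫ v' = v ∧ sg M t hk ≫ v' = l

theorem exists_isAvg (hπ : Function.Surjective π) (hk : RingHom.ker π ^ 2 = ⊥) (v : AMonS S M ⊗ Over.mk t ⟶ X)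
    (x₀ : Over.mk (Spec.map (CommRingCat.ofHom π) ≫ t) ⟶ X) (h : (AMonS S M ◁ ov π t) ≫ v = snd _ _ ≫ x₀) :
    ∃ l, IsAvg hk v l ∧ ov π t ≫ l = x₀ := by
  have hp := isPushout_W π M t hπ
  refine ⟨_, ⟨hp.desc v x₀ h, hp.inl_desc _ _ _, rfl⟩, ?_⟩
  rw [← Category.assoc, ov_sg, hp.inr_desc]

theorem IsAvg.unique (hπ : Function.Surjective π) {hk : RingHom.ker π ^ 2 = ⊥} {v : AMonS S M ⊗ Over.mk t ⟶ X}
    {l l' : Over.mk t ⟶ X} (h : IsAvg hk v l) (h' : IsAvg hk v l') : l = l' := by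
  obtain ⟨w, hw1, hw2⟩ := h
  obtain ⟨w', hw1', hw2'⟩ := h'
  have : w = w' := by
    apply (isPushout_W π M t hπ).hom_ext
    · rw [hw1, hw1']
    · rw [nu0_eq, Category.assoc, Category.assoc, hw1, hw1']
  rw [← hw2, ← hw2', this]

theorem IsAvg.comp {hk : RingHom.ker π ^ 2 = ⊥} {v : AMonS S M ⊗ Over.mk t ⟶ X} {l : Over.mk t ⟶ X}
    (h : IsAvg hk v l) (f : X ⟶ Y) : IsAvg hk (v ≫ f) (l ≫ f) := by
  obtain ⟨w, hw1, hw2⟩ := h
  exact ⟨w ≫ f, by rw [← hw1, Category.assoc], by rw [← hw2, Category.assoc]⟩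

theorem IsAvg.pair {hk : RingHom.ker π ^ 2 = ⊥} {v : AMonS S M ⊗ Over.mk t ⟶ X} {l : Over.mk t ⟶ X}
    {v' : AMonS S M ⊗ Over.mk t ⟶ Y} {l' : Over.mk t ⟶ Y}
    (h : IsAvg hk v l) (h' : IsAvg hk v' l') : IsAvg hk (lift v v') (lift l l') := by
  obtain ⟨w, hw1, hw2⟩ := h
  obtain ⟨w', hw1', hw2'⟩ := h'
  exact ⟨CartesianMonoidalCategory.lift w w', by rw [comp_lift, hw1, hw1'], by rw [comp_lift, hw2, hw2']⟩

theorem isAvg_snd (hk : RingHom.ker π ^ 2 = ⊥) (w : Over.mk t ⟶ X) : IsAvg hk (snd (AMonS S M) _ ≫ w) w :=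
  ⟨toP π M t ≫ w, by rw [← nu_toP π M t, Category.assoc], by
    rw [← Category.assoc, sg_toP, Category.id_comp]⟩

theorem IsAvg.of_hom {B' B₀' : Type u} [CommRing B'] [CommRing B₀'] {π' : B' →+* B₀'}
    {t' : Spec (CommRingCat.of B') ⟶ S} {hk : RingHom.ker π ^ 2 = ⊥} {hk' : RingHom.ker π' ^ 2 = ⊥}
    {v : AMonS S M ⊗ Over.mk t ⟶ X} {l : Over.mk t ⟶ X} (h : IsAvg hk v l)
    (m : W π' M t' ⟶ W π M t) (u : AMonS S M ⊗ Over.mk t' ⟶ AMonS S M ⊗ Over.mk t) (w : Over.mk t' ⟶ Over.mk t)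
    (h1 : nu π' M t' ≫ m = u ≫ nu π M t) (h2 : sg M t' hk' ≫ m = w ≫ sg M t hk) :
    IsAvg hk' (u ≫ v) (w ≫ l) := by
  obtain ⟨v', hv1, hv2⟩ := h
  exact ⟨m ≫ v', by rw [reassoc_of% h1, hv1], by rw [reassoc_of% h2, hv2]⟩

/-- Averages are compatible with base change. -/
theorem IsAvg.base {B' B₀' : Type u} [CommRing B'] [CommRing B₀'] {π' : B' →+* B₀'}
    {t' : Spec (CommRingCat.of B') ⟶ S} {hk : RingHom.ker π ^ 2 = ⊥} (hk' : RingHom.ker π' ^ 2 = ⊥)
    {v : AMonS S M ⊗ Over.mk t ⟶ X} {l : Over.mk t ⟶ X} (h : IsAvg hk v l)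
    (w : Over.mk t' ⟶ Over.mk t) (φ : B →+* B') (hw : w.left = Spec.map (CommRingCat.ofHom φ)) (φ₀ : B₀ →+* B₀')
    (hφ : π'.comp φ = φ₀.comp π) :
    IsAvg hk' ((AMonS S M ◁ w) ≫ v) (w ≫ l) := by
  have e1 : (MonoidAlgebra.mapRingHom (Multiplicative M) π').comp (MonoidAlgebra.mapRingHom (Multiplicative M) φ) =
      (MonoidAlgebra.mapRingHom (Multiplicative M) φ₀).comp (MonoidAlgebra.mapRingHom (Multiplicative M) π) := by
    rw [← MonoidAlgebra.mapRingHom_comp, ← MonoidAlgebra.mapRingHom_comp, hφ]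
  have e2 : (algebraMap B₀' (MA B₀' M)).comp φ₀ =
      (MonoidAlgebra.mapRingHom (Multiplicative M) φ₀).comp (algebraMap B₀ (MA B₀ M)) := by
    ext b
    simp [MonoidAlgebra.coe_algebraMap]
  have ht : Spec.map (CommRingCat.ofHom φ) ≫ t = t' := by
    rw [← hw]; exact Over.w w
  let κ : ER π M →+* ER π' M := eqL.map (MonoidAlgebra.mapRingHom (Multiplicative M) φ)
    (MonoidAlgebra.mapRingHom (Multiplicative M) φ₀) φ₀ e1 e2
  have e3 : κ.comp (toER π M) = (toER π' M).comp φ := by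
    refine RingHom.ext fun b => eqL.ext ?_ ?_
    · change MonoidAlgebra.mapRingHom (Multiplicative M) φ (algebraMap B (MA B M) b) = algebraMap B' (MA B' M) (φ b)
      simp [MonoidAlgebra.coe_algebraMap]
    · exact congr($hφ.symm b)
  refine h.of_hom (Over.homMk (Spec.map (CommRingCat.ofHom κ)) ?_) (AMonS S M ◁ w) w ?_ ?_
  · change Spec.map _ ≫ Spec.map _ ≫ t = Spec.map _ ≫ t'
    rw [← Spec.map_comp_assoc, ← CommRingCat.ofHom_comp, e3, ← ht, CommRingCat.ofHom_comp, Spec.map_comp,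
      Category.assoc]
  · ext1
    change (chart t' M).hom.left ≫ Spec.map _ ≫ Spec.map _ =
      (AMonS S M ◁ w).left ≫ (chart t M).hom.left ≫ Spec.map _
    have h3 := whisker_chart_of w φ hw M
    rw [Over.comp_left] at h3
    rw [reassoc_of% h3, ← Spec.map_comp, ← Spec.map_comp, ← CommRingCat.ofHom_comp, ← CommRingCat.ofHom_comp]
    rfl
  · ext1
    change Spec.map _ ≫ Spec.map _ = w.left ≫ Spec.map _
    rw [hw, ← Spec.map_comp, ← Spec.map_comp, ← CommRingCat.ofHom_comp, ← CommRingCat.ofHom_comp]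
    congr 2

end Over

section Translate

variable {R : Type u} [CommRing R] {M : Type} [AddCommMonoid M]

/-- `Xᵐ ↦ χ(m) Xᵐ`. -/
noncomputable def tr (χ : Multiplicative M →* R) : MA R M →+* MA R M :=
  mRing M (algebraMap R (MA R M))
    { toFun := fun m => MonoidAlgebra.single m (χ m)
      map_one' := by rw [map_one]; rfl
      map_mul' := fun a b => by rw [map_mul, MonoidAlgebra.single_mul_single] }

theorem tr_single (χ : Multiplicative M →* R) (m : Multiplicative M) (r : R) :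
    tr χ (MonoidAlgebra.single m r) = MonoidAlgebra.single m (r * χ m) := by
  rw [tr, mRing_single]
  change algebraMap R (MA R M) r * MonoidAlgebra.single m (χ m) = _
  rw [MonoidAlgebra.coe_algebraMap]
  simp

theorem tr_comp_algebraMap (χ : Multiplicative M →* R) :
    (tr χ).comp (algebraMap R (MA R M)) = algebraMap R (MA R M) := mRing_comp_algebraMap _ _ _

theorem coeff_tr (χ : Multiplicative M →* R) (x : MA R M) (m : Multiplicative M) :
    (tr χ x).coeff m = x.coeff m * χ m := by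
  induction x using MonoidAlgebra.induction_linear with
  | zero => rw [map_zero]; simp
  | add y z hy hz => rw [map_add, MonoidAlgebra.coeff_add, MonoidAlgebra.coeff_add, Finsupp.add_apply,
      Finsupp.add_apply, hy, hz, add_mul]
  | single n r =>
    classical
    rw [tr_single, MonoidAlgebra.coeff_single, MonoidAlgebra.coeff_single, Finsupp.single_apply, Finsupp.single_apply]
    by_cases h : n = m
    · subst h; simp
    · simp [h]

theorem map_tr {R' : Type u} [CommRing R'] (φ : R →+* R') (χ : Multiplicative M →* R) :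
    (MonoidAlgebra.mapRingHom (Multiplicative M) φ).comp (tr χ) =
      (tr ((φ : R →* R').comp χ)).comp (MonoidAlgebra.mapRingHom (Multiplicative M) φ) := by
  apply MonoidAlgebra.ringHom_ext
  · intro r
    simp [tr_single]
  · intro m
    simp [tr_single]

end Translate

section Trans

variable {B B₀ : Type u} [CommRing B] [CommRing B₀] {π : B →+* B₀} {M : Type} [AddCommMonoid M]
  {S : Scheme.{u}} {t : Spec (CommRingCat.of B) ⟶ S} {X : Over S}

/-- Averages are invariant under translations. -/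
theorem IsAvg.translate {hk : RingHom.ker π ^ 2 = ⊥} {v : AMonS S M ⊗ Over.mk t ⟶ X} {l : Over.mk t ⟶ X}
    (h : IsAvg hk v l) (x : Over.mk t ⟶ AMonS S M) :
    IsAvg hk (lift (fst (AMonS S M) (Over.mk t) * (snd _ _ ≫ x)) (snd _ _) ≫ v) l := by
  let e : B →+* Γ(Spec (CommRingCat.of B), ⊤) := toRing (B := B) (𝟙 (Spec (CommRingCat.of B)))
  let χ : Multiplicative M →* B := 
    (((Scheme.ΓSpecIso (CommRingCat.of B)).hom.hom : Γ(Spec (CommRingCat.of B), ⊤) →+* B) :
      Γ(Spec (CommRingCat.of B), ⊤) →* B).comp (amChar x)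
  have hχ : ∀ m, e (χ m) = amChar x m := by
    intro m
    have h1 : (𝟙 (Spec (CommRingCat.of B))) = Spec.map (𝟙 _) := Spec.map_id _ |>.symm
    change (𝟙 (Spec (CommRingCat.of B)) : _ ⟶ _).appTop.hom ((Scheme.ΓSpecIso (CommRingCat.of B)).inv.hom
      ((Scheme.ΓSpecIso (CommRingCat.of B)).hom.hom (amChar x m))) = _
    rw [Scheme.Hom.id_appTop]
    exact congr($((Scheme.ΓSpecIso (CommRingCat.of B)).hom_inv_id).hom (amChar x m))
  have h5 : (lift (fst (AMonS S M) (Over.mk t) * (snd _ _ ≫ x)) (snd _ _) ≫ (chart t M).hom).left =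
      (chart t M).hom.left ≫ Spec.map (CommRingCat.ofHom (tr χ)) := by
    apply toRing_injective (B := MA B M)
    have h1 := toRing_chartHom t M (fst (AMonS S M) (Over.mk t) * (snd _ _ ≫ x)) (snd _ _)
    refine h1.trans ?_
    have h2 := toRing_SpecMap (B := MA B M) (chart t M).hom.left (tr χ)
    refine Eq.trans ?_ h2.symm
    have h3 := toRing_chartHom t M (fst (AMonS S M) (Over.mk t)) (snd _ _)
    rw [lift_fst_snd, Category.id_comp] at h3
    rw [chart_hom, h3]
    apply ma_ringHom_ext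
    · rw [mRing_comp_algebraMap, RingHom.comp_assoc, tr_comp_algebraMap, mRing_comp_algebraMap]
    · intro n
      rw [mRing_single, map_one, _root_.one_mul, RingHom.comp_apply, tr_single, _root_.one_mul, mRing_single,
        amChar_mul, amChar_comp, MonoidHom.mul_apply, mul_comm]
      congr 1
      have h6 : rho t (snd (AMonS S M) (Over.mk t)) = (snd (AMonS S M) (Over.mk t)).left.appTop.hom.comp e := by
        have h7 := toRing_comp (B := B) (snd (AMonS S M) (Over.mk t)).left (𝟙 (Spec (CommRingCat.of B)))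
        refine Eq.trans ?_ h7
        erw [Category.comp_id]
      rw [h6, RingHom.comp_apply, hχ]
      rfl
  let κ : ER π M →+* ER π M := eqL.map (tr χ) (tr ((π : B →* B₀).comp χ)) (RingHom.id B₀)
    (map_tr π χ) (by rw [tr_comp_algebraMap, RingHom.comp_id])
  have e3 : κ.comp (toER π M) = toER π M := by
    refine RingHom.ext fun b => eqL.ext ?_ rfl
    exact congr($(tr_comp_algebraMap χ) b)
  have := h.of_hom (hk' := hk) (Over.homMk (Spec.map (CommRingCat.ofHom κ)) (by
    change Spec.map _ ≫ Spec.map _ ≫ t = Spec.map _ ≫ t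
    rw [← Spec.map_comp_assoc, ← CommRingCat.ofHom_comp, e3]) : W π M t ⟶ W π M t)
    (lift (fst (AMonS S M) (Over.mk t) * (snd _ _ ≫ x)) (snd _ _)) (𝟙 _) ?_ ?_
  · rwa [Category.id_comp] at this
  · ext1
    rw [Over.comp_left] at h5
    change (chart t M).hom.left ≫ Spec.map _ ≫ Spec.map _ =
      (lift (fst (AMonS S M) (Over.mk t) * (snd (AMonS S M) (Over.mk t) ≫ x)) (snd (AMonS S M) (Over.mk t))).left ≫
        (chart t M).hom.left ≫ Spec.map _
    rw [reassoc_of% h5, ← Spec.map_comp, ← Spec.map_comp, ← CommRingCat.ofHom_comp, ← CommRingCat.ofHom_comp]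
    rfl
  · ext1
    change Spec.map _ ≫ Spec.map _ = 𝟙 _ ≫ Spec.map _
    rw [Category.id_comp, ← Spec.map_comp, ← CommRingCat.ofHom_comp]
    congr 2
    refine RingHom.ext fun y => ?_
    change (tr χ y.1.1).coeff 1 = y.1.1.coeff 1
    have h9 : χ 1 = 1 := map_one χ
    rw [coeff_tr, h9, _root_.mul_one]

end Trans

end K949.Avg
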