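import Groth.Agent.Magnet.K949.Pts

/-!
# The chart `A(N)_S ×_S Spec A ≅ Spec A[N]`

For `t : Spec A ⟶ S`: `K949.Chart.chart t N : AMonS S N ⊗ Over.mk t ≅ aff t A[N]` (as objects of `Over S`), natural in
`N` (`map_chart`, `face_chart`) and in `A` (`whisker_chart`).
-/

set_option autoImplicit false
universe u
open CategoryTheory MonoidalCategory CartesianMonoidalCategory MonObj AlgebraicGeometry Limits Opposite

namespace K949.Chart

open K949.Pts

/-! ### Morphisms to affine schemes as ring maps -/

section Ring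

variable {X Y : Scheme.{u}} {B C : Type u} [CommRing B] [CommRing C]

/-- The ring hom attached to a morphism to an affine scheme. -/
noncomputable def toRing (f : X ⟶ Spec (CommRingCat.of B)) : B →+* Γ(X, ⊤) :=
  f.appTop.hom.comp (Scheme.ΓSpecIso (CommRingCat.of B)).inv.hom

/-- The morphism to an affine scheme attached to a ring hom. -/
noncomputable def ofRing (φ : B →+* Γ(X, ⊤)) : X ⟶ Spec (CommRingCat.of B) :=
  X.toSpecΓ ≫ Spec.map (CommRingCat.ofHom φ)

@[simp] lemma ofRing_toRing (f : X ⟶ Spec (CommRingCat.of B)) : ofRing (toRing f) = f := by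
  rw [ofRing, toRing, CommRingCat.ofHom_comp, Spec.map_comp]
  simp only [CommRingCat.ofHom_hom]
  rw [← Scheme.toSpecΓ_naturality_assoc, toSpecΓ_SpecMap_ΓSpecIso_inv, Category.comp_id]

@[simp] lemma toRing_ofRing (φ : B →+* Γ(X, ⊤)) : toRing (ofRing φ) = φ := by
  have h : CommRingCat.ofHom (toRing (ofRing φ)) = CommRingCat.ofHom φ := by
    rw [toRing, ofRing, CommRingCat.ofHom_comp]
    simp only [CommRingCat.ofHom_hom, Scheme.Hom.comp_appTop, Scheme.toSpecΓ_appTop]
    have h1 := Scheme.ΓSpecIso_inv_naturality (CommRingCat.ofHom φ)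
    rw [← Category.assoc, ← h1, Category.assoc]
    exact (congrArg (CommRingCat.ofHom φ ≫ ·) (Scheme.ΓSpecIso Γ(X, ⊤)).inv_hom_id).trans (Category.comp_id _)
  exact congr(CommRingCat.Hom.hom $h)

lemma toRing_injective {f g : X ⟶ Spec (CommRingCat.of B)} (h : toRing f = toRing g) : f = g := by
  rw [← ofRing_toRing f, h, ofRing_toRing]

lemma toRing_comp (g : Y ⟶ X) (f : X ⟶ Spec (CommRingCat.of B)) :
    toRing (g ≫ f) = g.appTop.hom.comp (toRing f) := by
  rw [toRing, toRing, Scheme.Hom.comp_appTop, CommRingCat.hom_comp, RingHom.comp_assoc]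

lemma toRing_SpecMap (f : X ⟶ Spec (CommRingCat.of B)) (φ : C →+* B) :
    toRing (f ≫ Spec.map (CommRingCat.ofHom φ)) = (toRing f).comp φ := by
  conv_lhs => rw [← ofRing_toRing f]
  rw [ofRing, Category.assoc, ← Spec.map_comp, ← CommRingCat.ofHom_comp, ← ofRing, toRing_ofRing]

end Ring

section Chart

variable {S : Scheme.{u}} {A : Type u} [CommRing A] (t : Spec (CommRingCat.of A) ⟶ S)

/-- `Spec B` over `S` through `Spec A`. -/
noncomputable abbrev aff (B : Type u) [CommRing B] [Algebra A B] : Over S :=
  Over.mk (Spec.map (CommRingCat.ofHom (algebraMap A B)) ≫ t)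

/-- The projection `Spec B ⟶ Spec A` over `S`. -/
noncomputable abbrev affTo (B : Type u) [CommRing B] [Algebra A B] : aff t B ⟶ Over.mk t :=
  Over.homMk (Spec.map (CommRingCat.ofHom (algebraMap A B))) rfl

/-- The morphism attached to an algebra map. -/
noncomputable abbrev affMap {B C : Type u} [CommRing B] [Algebra A B] [CommRing C] [Algebra A C] (φ : B →ₐ[A] C) :
    aff t C ⟶ aff t B :=
  Over.homMk (Spec.map (CommRingCat.ofHom φ.toRingHom)) (by
    change _ ≫ _ ≫ t = _ ≫ t
    rw [← Spec.map_comp_assoc, ← CommRingCat.ofHom_comp]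
    exact congrArg (fun ψ => Spec.map (CommRingCat.ofHom ψ) ≫ t) φ.comp_algebraMap)

/-- The ring hom `A → Γ(W)` of an `S`-morphism `W ⟶ Spec A`. -/
noncomputable abbrev rho {W : Over S} (w : W ⟶ Over.mk t) : A →+* Γ(W.left, ⊤) := toRing (B := A) w.left

variable {t} in
lemma rho_comp {W W' : Over S} (h : W' ⟶ W) (w : W ⟶ Over.mk t) :
    rho t (h ≫ w) = h.left.appTop.hom.comp (rho t w) := toRing_comp (B := A) h.left w.left

/-- An `S`-morphism `W ⟶ Spec B` from an `S`-morphism to `Spec A` and a ring map. -/
noncomputable def affPt {W : Over S} (w : W ⟶ Over.mk t) {B : Type u} [CommRing B] [Algebra A B]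
    (φ : B →+* Γ(W.left, ⊤)) (h : φ.comp (algebraMap A B) = rho t w) : W ⟶ aff t B :=
  Over.homMk (ofRing φ) (by
    change ofRing φ ≫ _ ≫ t = _
    have h1 : ofRing φ ≫ Spec.map (CommRingCat.ofHom (algebraMap A B)) = w.left := by
      apply toRing_injective
      rw [toRing_SpecMap, toRing_ofRing, h]
    rw [reassoc_of% h1]
    exact Over.w w)

@[simp] lemma toRing_affPt {W : Over S} (w : W ⟶ Over.mk t) {B : Type u} [CommRing B] [Algebra A B]
    (φ : B →+* Γ(W.left, ⊤)) (h : φ.comp (algebraMap A B) = rho t w) :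
    toRing (affPt t w φ h).left = φ := toRing_ofRing φ

@[reassoc (attr := simp)] lemma affPt_affTo {W : Over S} (w : W ⟶ Over.mk t) {B : Type u} [CommRing B] [Algebra A B]
    (φ : B →+* Γ(W.left, ⊤)) (h : φ.comp (algebraMap A B) = rho t w) :
    affPt t w φ h ≫ affTo t B = w := by
  ext1
  apply toRing_injective (B := A)
  exact (toRing_SpecMap (B := B) (affPt t w φ h).left (algebraMap A B)).trans
    ((congrArg (fun ψ : B →+* Γ(W.left, ⊤) => ψ.comp (algebraMap A B)) (toRing_affPt t w φ h)).trans h)

variable {t} in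
lemma aff_ext {W : Over S} {B : Type u} [CommRing B] [Algebra A B] {x y : W ⟶ aff t B}
    (h : toRing (B := B) x.left = toRing (B := B) y.left) : x = y := by
  ext1
  exact toRing_injective h

variable (N : Type) [AddCommMonoid N]

/-- The monoid algebra `A[N]`. -/
abbrev MA (A : Type u) [CommRing A] (N : Type) [AddCommMonoid N] : Type u := MonoidAlgebra A (Multiplicative N)

/-- the ring hom `A[N] → E` attached to `A → E` and `N → E` -/
noncomputable def mRing {E : Type u} [CommRing E] (ρ : A →+* E) (χ : Multiplicative N →* E) : MA A N →+* E :=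
  MonoidAlgebra.liftNCRingHom ρ χ (fun _ _ => mul_comm _ _)

variable {N} in
@[simp] lemma mRing_single {E : Type u} [CommRing E] (ρ : A →+* E) (χ : Multiplicative N →* E)
    (n : Multiplicative N) (a : A) : mRing N ρ χ (MonoidAlgebra.single n a) = ρ a * χ n := by
  exact MonoidAlgebra.liftNCRingHom_single _ _ _ _ _

lemma mRing_comp_algebraMap {E : Type u} [CommRing E] (ρ : A →+* E) (χ : Multiplicative N →* E) :
    (mRing N ρ χ).comp (algebraMap A (MA A N)) = ρ := by
  ext a
  simp [MonoidAlgebra.coe_algebraMap]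

variable {N} in
lemma ma_ringHom_ext {E : Type u} [CommRing E] {f g : MA A N →+* E}
    (h1 : f.comp (algebraMap A (MA A N)) = g.comp (algebraMap A (MA A N)))
    (h2 : ∀ n, f (MonoidAlgebra.single n 1) = g (MonoidAlgebra.single n 1)) : f = g := by
  apply MonoidAlgebra.ringHom_ext
  · intro r
    have := congr($h1 r)
    simpa [MonoidAlgebra.coe_algebraMap] using this
  · exact h2

/-- the `n`-th monomial as a monoid map to `A[N]` followed by a ring hom -/
noncomputable def mChar {E : Type u} [CommRing E] (f : MA A N →+* E) : Multiplicative N →* E :=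
  f.toMonoidHom.comp (MonoidAlgebra.of A (Multiplicative N))

variable {N} in
@[simp] lemma mChar_apply {E : Type u} [CommRing E] (f : MA A N →+* E) (n : Multiplicative N) :
    mChar N f n = f (MonoidAlgebra.single n 1) := rfl

/-- The universal character on `Spec A[N]`. -/
noncomputable def univChar : Multiplicative N →* Γ((aff t (MA A N)).left, ⊤) :=
  mChar N (toRing (B := MA A N) (𝟙 (Spec (CommRingCat.of (MA A N)))))

lemma univChar_comp {W : Over S} (x : W ⟶ aff t (MA A N)) :
    ((x.left.appTop.hom : _ →* _).comp (univChar t N)) = mChar N (toRing (B := MA A N) x.left) := by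
  refine MonoidHom.ext fun n => ?_
  have h := toRing_comp (B := MA A N) x.left (𝟙 _)
  rw [Category.comp_id] at h
  rw [mChar_apply, h]
  rfl

/-- `Spec A[N] ⟶ A(N)_S ×_S Spec A`. -/
noncomputable def chartInv : aff t (MA A N) ⟶ Magnet.AMonS S N ⊗ Over.mk t :=
  lift (amEquiv _ N (univChar t N)) (affTo t (MA A N))

/-- `A(N)_S ×_S Spec A ⟶ Spec A[N]`. -/
noncomputable def chartHom : Magnet.AMonS S N ⊗ Over.mk t ⟶ aff t (MA A N) :=
  affPt t (snd _ _) (mRing N (rho t (snd _ _)) (amChar (fst _ _))) (mRing_comp_algebraMap _ _ _)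

lemma toRing_chartHom {W : Over S} (x : W ⟶ Magnet.AMonS S N) (w : W ⟶ Over.mk t) :
    toRing (B := MA A N) (lift x w ≫ chartHom t N).left = mRing N (rho t w) (amChar x) := by
  have h1 : toRing (B := MA A N) (lift x w ≫ chartHom t N).left =
      (lift x w).left.appTop.hom.comp (toRing (B := MA A N) (chartHom t N).left) :=
    toRing_comp _ _
  rw [h1, chartHom, toRing_affPt]
  apply ma_ringHom_ext
  · rw [RingHom.comp_assoc, mRing_comp_algebraMap, mRing_comp_algebraMap, ← rho_comp, lift_snd]
  · intro n
    have h2 := amChar_comp (lift x w) (fst (Magnet.AMonS S N) (Over.mk t))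
    rw [lift_fst] at h2
    rw [RingHom.comp_apply, mRing_single, mRing_single, map_one, map_one, _root_.one_mul, _root_.one_mul, h2]
    rfl

lemma comp_chartInv {W : Over S} (x : W ⟶ aff t (MA A N)) :
    x ≫ chartInv t N = lift (amEquiv _ N (mChar N (toRing (B := MA A N) x.left))) (x ≫ affTo t (MA A N)) := by
  rw [chartInv, comp_lift, amEquiv_naturality, univChar_comp]

lemma rho_affTo {W : Over S} {B : Type u} [CommRing B] [Algebra A B] (x : W ⟶ aff t B) :
    rho t (x ≫ affTo t B) = (toRing (B := B) x.left).comp (algebraMap A B) :=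
  toRing_SpecMap _ _

/-- `A(N)_S ×_S Spec A ≅ Spec A[N]`. -/
noncomputable def chart : Magnet.AMonS S N ⊗ Over.mk t ≅ aff t (MA A N) where
  hom := chartHom t N
  inv := chartInv t N
  hom_inv_id := by
    have h := toRing_chartHom t N (fst (Magnet.AMonS S N) (Over.mk t)) (snd _ _)
    rw [lift_fst_snd, Category.id_comp] at h
    rw [comp_chartInv, h]
    apply CartesianMonoidalCategory.hom_ext
    · rw [lift_fst, Category.id_comp]
      apply amChar_injective
      rw [amChar_amEquiv]
      ext n
      simp
    · rw [lift_snd, Category.id_comp, chartHom, affPt_affTo]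
  inv_hom_id := by
    apply aff_ext
    rw [chartInv, toRing_chartHom, amChar_amEquiv]
    apply ma_ringHom_ext
    · rw [mRing_comp_algebraMap]
      have h := rho_affTo t (𝟙 (aff t (MA A N)))
      rw [Category.id_comp] at h
      exact h
    · intro n
      simp only [mRing_single, map_one, _root_.one_mul]
      rfl

@[simp] lemma chart_hom : (chart t N).hom = chartHom t N := rfl
@[simp] lemma chart_inv : (chart t N).inv = chartInv t N := rfl

end Chart

section Nat

variable {S : Scheme.{u}} {A : Type u} [CommRing A] (t : Spec (CommRingCat.of A) ⟶ S)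

/-- The chart is natural in the monoid. -/
lemma map_chart {M N : Type} [AddCommMonoid M] [AddCommMonoid N] (f : N →+ M) :
    (Magnet.AMonS.map S f ▷ Over.mk t) ≫ (chart t N).hom =
      (chart t M).hom ≫ affMap t (MonoidAlgebra.mapDomainAlgHom A A (AddMonoidHom.toMultiplicative f)) := by
  have e : Magnet.AMonS.map S f ▷ Over.mk t = lift (fst _ _ ≫ Magnet.AMonS.map S f) (snd _ _) := by
    apply CartesianMonoidalCategory.hom_ext <;> simp
  rw [e]
  apply aff_ext
  rw [chart_hom, toRing_chartHom]
  have h : toRing (B := MA A N) ((chart t M).hom ≫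
      affMap t (MonoidAlgebra.mapDomainAlgHom A A (AddMonoidHom.toMultiplicative f))).left =
      (toRing (B := MA A M) (chart t M).hom.left).comp
        (MonoidAlgebra.mapDomainAlgHom A A (AddMonoidHom.toMultiplicative f)).toRingHom :=
    toRing_SpecMap _ _
  rw [h]
  have h2 := toRing_chartHom t M (fst (Magnet.AMonS S M) (Over.mk t)) (snd _ _)
  rw [lift_fst_snd, Category.id_comp] at h2
  rw [chart_hom, h2]
  apply ma_ringHom_ext
  · rw [mRing_comp_algebraMap]
    ext a
    simp [MonoidAlgebra.coe_algebraMap]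
  · intro n
    rw [amChar_map]
    simp

/-- The chart is compatible with face maps. -/
lemma face_chart {M : Type} [AddCommMonoid M] {N F : AddSubmonoid M} (hF : Magnet.IsFace N F) :
    (Magnet.AMonS.faceMap S hF ▷ Over.mk t) ≫ (chart t N).hom =
      (chart t F).hom ≫ affMap t (Magnet.faceAlgHom A hF) := by
  have e : Magnet.AMonS.faceMap S hF ▷ Over.mk t = lift (fst _ _ ≫ Magnet.AMonS.faceMap S hF) (snd _ _) := by
    apply CartesianMonoidalCategory.hom_ext <;> simp
  rw [e]
  apply aff_ext
  rw [chart_hom, toRing_chartHom]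
  have h : toRing (B := MA A N) ((chart t F).hom ≫ affMap t (Magnet.faceAlgHom A hF)).left =
      (toRing (B := MA A F) (chart t F).hom.left).comp (Magnet.faceAlgHom A hF).toRingHom :=
    toRing_SpecMap _ _
  rw [h]
  have h2 := toRing_chartHom t F (fst (Magnet.AMonS S F) (Over.mk t)) (snd _ _)
  rw [lift_fst_snd, Category.id_comp] at h2
  rw [chart_hom, h2]
  apply ma_ringHom_ext
  · rw [mRing_comp_algebraMap]
    refine RingHom.ext fun a => ?_
    have h5 : (Magnet.faceAlgHom A hF).toRingHom ((algebraMap A (MA A N)) a) = (algebraMap A (MA A F)) a :=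
      (Magnet.faceAlgHom A hF).commutes a
    rw [RingHom.comp_apply, RingHom.comp_apply, h5]
    exact (congr($(mRing_comp_algebraMap F (rho t (snd (Magnet.AMonS S F) (Over.mk t)))
      (amChar (fst (Magnet.AMonS S F) (Over.mk t)))) a)).symm
  · intro n
    rw [amChar_faceMap]
    by_cases hn : ((Multiplicative.toAdd n : ↥N) : M) ∈ F
    · have h3 := Magnet.faceAlgHom_single_of_mem A hF (Multiplicative.toAdd n) hn 1
      have h4 := extZero_of_mem hF (amChar (fst (Magnet.AMonS S F) (Over.mk t))) (Multiplicative.toAdd n) hn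
      rw [mRing_single, map_one, _root_.one_mul]
      refine Eq.trans h4 ?_
      refine Eq.trans ?_ (congrArg (mRing F _ _) h3.symm)
      rw [mRing_single, map_one, _root_.one_mul]
    · have h3 := Magnet.faceAlgHom_single_of_not_mem A hF (Multiplicative.toAdd n) hn 1
      have h4 := extZero_of_not_mem hF (amChar (fst (Magnet.AMonS S F) (Over.mk t))) (Multiplicative.toAdd n) hn
      rw [mRing_single, map_one, _root_.one_mul]
      refine Eq.trans h4 ?_
      refine Eq.trans ?_ (congrArg (mRing F _ _) h3.symm)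
      exact (map_zero _).symm

end Nat

end K949.Chart
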