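import Groth.Agent.Magnet.K949.Chart
import Groth.Agent.Magnet.K951.Stab

/-!
# Schematic density of `A(M)_T → A(N)_T` for `N ↪ M`

`K949.Dominant.dominant_map`: for an injective `f : N →+ M` and any `T : Over S` the morphism
`(AMonS.map S f ▷ T).left` is schematically dominant (and affine, `isAffineHom_map`).
-/

set_option autoImplicit false
universe u
open CategoryTheory MonoidalCategory CartesianMonoidalCategory MonObj AlgebraicGeometry Limits Opposite

namespace K949.Dominant

open K949.Pts K949.Chart

lemma app_injective_of_isPullback {X Y U V : Scheme.{u}} (f : X ⟶ Y) {g : U ⟶ Y} {f' : V ⟶ U} {g' : V ⟶ X}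
    [IsOpenImmersion g] (sq : IsPullback g' f' f g) [QuasiCompact f] [hd : IsSchemeTheoreticallyDominant f']
    (W : Y.Opens) (hW : W ≤ g.opensRange) : Function.Injective (f.app W) := by
  have hqc : QuasiCompact f' := MorphismProperty.of_isPullback sq inferInstance
  rw [injective_iff_map_eq_zero]
  intro x hx
  have h1 : Function.Injective (g.app W) := by
    have : IsIso (g.app W) := g.isIso_app W hW
    exact (ConcreteCategory.bijective_of_isIso (g.app W)).1
  apply h1
  rw [map_zero]
  have h2 : (g' ≫ f).app W x = 0 := by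
    refine Eq.trans ?_ (map_zero (g'.app (f ⁻¹ᵁ W)).hom)
    exact congrArg (g'.app (f ⁻¹ᵁ W)).hom hx
  have h3 : (f' ≫ g).app W x = 0 := by
    rw [Scheme.Hom.congr_app sq.w.symm W, CommRingCat.comp_apply, h2, map_zero]
  apply f'.app_injective
  exact h3.trans (map_zero _).symm

/-- Schematic dominance may be checked locally on the target. -/
theorem of_forall_exists {X Y : Scheme.{u}} (f : X ⟶ Y) [QuasiCompact f]
    (h : ∀ y : Y, ∃ (U V : Scheme.{u}) (g : U ⟶ Y) (f' : V ⟶ U) (g' : V ⟶ X),
      IsOpenImmersion g ∧ y ∈ Set.range g ∧ IsPullback g' f' f g ∧ IsSchemeTheoreticallyDominant f') :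
    IsSchemeTheoreticallyDominant f := by
  rw [isSchemeTheoreticallyDominant_iff]
  let J : Type u := {V : Y.Opens // IsAffineOpen V ∧ Function.Injective (f.app V)}
  refine Scheme.IdealSheafData.ext_of_iSup_eq_top (fun V : J => ⟨V.1, V.2.1⟩) ?_ ?_
  · rw [eq_top_iff]
    intro y _
    obtain ⟨U, V, g, f', g', hg, hy, sq, hd⟩ := h y
    obtain ⟨_, ⟨W, hW, rfl⟩, hyW, hWU⟩ :=
      Y.isBasis_affineOpens.exists_subset_of_mem_open (show y ∈ (g.opensRange : Set Y) from hy) g.opensRange.isOpen
    rw [TopologicalSpace.Opens.mem_iSup]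
    exact ⟨⟨W, hW, app_injective_of_isPullback f sq W hWU⟩, hyW⟩
  · rintro ⟨V, hV, hinj⟩
    rw [Scheme.Hom.ker_apply, Scheme.IdealSheafData.ideal_bot, Pi.bot_apply]
    exact (RingHom.injective_iff_ker_eq_bot _).1 hinj

/-- `Spec` of an injective ring map is schematically dominant. -/
theorem specMap_of_injective {R R' : CommRingCat.{u}} (φ : R ⟶ R') (hφ : Function.Injective φ.hom) :
    IsSchemeTheoreticallyDominant (Spec.map φ) := by
  rw [isSchemeTheoreticallyDominant_iff]
  refine Scheme.IdealSheafData.ext_of_isAffine ?_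
  rw [Scheme.Hom.ker_apply, Scheme.IdealSheafData.ideal_bot, Pi.bot_apply, ← RingHom.injective_iff_ker_eq_bot]
  change Function.Injective (Spec.map φ).appTop
  have h := Scheme.ΓSpecIso_inv_naturality φ
  have h2 : (Spec.map φ).appTop = (Scheme.ΓSpecIso R).hom ≫ φ ≫ (Scheme.ΓSpecIso R').inv := by
    rw [h, Iso.hom_inv_id_assoc]
  rw [h2]
  have h3 : Function.Injective (Scheme.ΓSpecIso R).hom.hom := (ConcreteCategory.bijective_of_isIso (Scheme.ΓSpecIso R).hom).1
  have h4 : Function.Injective (Scheme.ΓSpecIso R').inv.hom := (ConcreteCategory.bijective_of_isIso (Scheme.ΓSpecIso R').inv).1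
  exact h4.comp (hφ.comp h3)

section

variable {S : Scheme.{u}} {M N : Type} [AddCommMonoid M] [AddCommMonoid N]

theorem isAffineHom_amonS (S : Scheme.{u}) (M : Type) [AddCommMonoid M] : IsAffineHom (Magnet.AMonS S M).hom := by
  have : IsAffineHom (Magnet.AMon (ULift.{u} ℤ) M).hom := by
    change IsAffineHom (Spec (CommRingCat.of (MonoidAlgebra (ULift.{u} ℤ) (Multiplicative M))) ↘ _)
    infer_instance
  exact MorphismProperty.pullback_snd (P := @IsAffineHom) _ _ this

theorem isAffineHom_snd (M : Type) [AddCommMonoid M] (T : Over S) :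
    IsAffineHom (snd (Magnet.AMonS S M) T).left := by
  exact MorphismProperty.pullback_snd (P := @IsAffineHom) _ _ (isAffineHom_amonS S M)

theorem isAffineHom_map (f : N →+ M) (T : Over S) : IsAffineHom (Magnet.AMonS.map S f ▷ T).left := by
  have h1 := isAffineHom_snd (S := S) N T
  have h2 := isAffineHom_snd (S := S) M T
  have h3 : (Magnet.AMonS.map S f ▷ T).left ≫ (snd (Magnet.AMonS S N) T).left = (snd (Magnet.AMonS S M) T).left := by
    rw [← Over.comp_left, whiskerRight_snd]
  rw [← h3] at h2
  exact MorphismProperty.of_postcomp (W := @IsAffineHom) (W' := @IsSeparated) _ _ inferInstance h2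

theorem isIso_left_hom {X Y : Over S} (e : X ≅ Y) : IsIso e.hom.left :=
  inferInstanceAs (IsIso ((Over.forget S).mapIso e).hom)

theorem isIso_left_inv {X Y : Over S} (e : X ≅ Y) : IsIso e.inv.left :=
  inferInstanceAs (IsIso ((Over.forget S).mapIso e).inv)

theorem dominant_map_mk (f : N →+ M) (hf : Function.Injective f) {A : Type u} [CommRing A]
    (t : Spec (CommRingCat.of A) ⟶ S) : IsSchemeTheoreticallyDominant (Magnet.AMonS.map S f ▷ Over.mk t).left := by
  have h1 : (Magnet.AMonS.map S f ▷ Over.mk t).left =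
      (chart t M).hom.left ≫ (affMap t (MonoidAlgebra.mapDomainAlgHom A A (AddMonoidHom.toMultiplicative f))).left ≫
        (chart t N).inv.left := by
    rw [← Over.comp_left, ← Over.comp_left, ← reassoc_of% (map_chart t f), Iso.hom_inv_id, Category.comp_id]
  have h2 : IsSchemeTheoreticallyDominant
      (affMap t (MonoidAlgebra.mapDomainAlgHom A A (AddMonoidHom.toMultiplicative f))).left := by
    refine specMap_of_injective _ ?_
    exact MonoidAlgebra.mapDomain_injective (f := AddMonoidHom.toMultiplicative f) hf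
  have h3 := isIso_left_hom (chart t M)
  have h4 := isIso_left_inv (chart t N)
  rw [h1]
  infer_instance

/-- For an injective `f : N →+ M` and any `T : Over S`, `A(M)_T ⟶ A(N)_T` is schematically dominant. -/
theorem dominant_map (f : N →+ M) (hf : Function.Injective f) (T : Over S) :
    IsSchemeTheoreticallyDominant (Magnet.AMonS.map S f ▷ T).left := by
  have ha := isAffineHom_map f T
  refine of_forall_exists _ fun y => ?_
  let 𝒰 := T.left.affineOpenCover
  obtain ⟨i, x, hx⟩ : ∃ i, (snd (Magnet.AMonS S N) T).left y ∈ Set.range (𝒰.f i) := ⟨_, 𝒰.covers _⟩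
  let A : Type u := 𝒰.X i
  let v : Spec (CommRingCat.of A) ⟶ T.left := 𝒰.f i
  let t : Spec (CommRingCat.of A) ⟶ S := v ≫ T.hom
  let h : Over.mk t ⟶ T := Over.homMk v rfl
  have hv : IsOpenImmersion h.left := inferInstanceAs (IsOpenImmersion (𝒰.f i))
  have sq1 := K951.Stab.isPullback_whiskerLeft_left (Magnet.AMonS S N) h
  have sq2 := K951.Stab.isPullback_whiskerLeft_left (Magnet.AMonS S M) h
  have hg : IsOpenImmersion (Magnet.AMonS S N ◁ h).left :=
    MorphismProperty.of_isPullback (P := @IsOpenImmersion) sq1 hv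
  refine ⟨_, _, (Magnet.AMonS S N ◁ h).left, (Magnet.AMonS.map S f ▷ Over.mk t).left,
    (Magnet.AMonS S M ◁ h).left, hg, ?_, ?_, dominant_map_mk f hf t⟩
  · obtain ⟨z, -, hz⟩ := Scheme.exists_preimage_of_isPullback sq1 x y hx
    exact ⟨z, hz⟩
  · have hsq : IsPullback (Magnet.AMonS S M ◁ h).left ((Magnet.AMonS.map S f ▷ Over.mk t).left ≫
        (snd (Magnet.AMonS S N) (Over.mk t)).left)
        ((Magnet.AMonS.map S f ▷ T).left ≫ (snd (Magnet.AMonS S N) T).left) h.left := by
      rw [← Over.comp_left, ← Over.comp_left, whiskerRight_snd, whiskerRight_snd]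
      exact sq2.flip
    refine IsPullback.of_bot hsq ?_ sq1.flip
    rw [← Over.comp_left, ← Over.comp_left, whisker_exchange]

end

end K949.Dominant
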