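import Groth.Agent.Magnet.K949.Avg
import Groth.Agent.Flat2H.FSSmoothHom

/-!
# Equivariant lifting along smooth morphisms for actions of diagonalizable group schemes
-/

set_option autoImplicit false
universe u
open CategoryTheory MonoidalCategory CartesianMonoidalCategory MonObj AlgebraicGeometry Limits Opposite

namespace K949.EqLift

open K949.Pts K949.Chart K949.Thick K949.Fib K949.Avg Magnet Magnet.MonAct

/-- Lifting along smooth morphisms against surjections of rings with square-zero kernel. -/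
theorem exists_lift_spec {X Y : Scheme.{u}} (f : X ⟶ Y) [Smooth f] {B B₀ : Type u} [CommRing B] [CommRing B₀]
    (π : B →+* B₀) (hπ : Function.Surjective π) (hk : RingHom.ker π ^ 2 = ⊥) (a : Spec (CommRingCat.of B₀) ⟶ X)
    (b : Spec (CommRingCat.of B) ⟶ Y) (h : Spec.map (CommRingCat.ofHom π) ≫ b = a ≫ f) :
    ∃ l : Spec (CommRingCat.of B) ⟶ X, Spec.map (CommRingCat.ofHom π) ≫ l = a ∧ l ≫ f = b := by
  let e : B ⧸ RingHom.ker π ≃+* B₀ := RingHom.quotientKerEquivOfSurjective hπ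
  have he1 : e.toRingHom.comp (Ideal.Quotient.mk (RingHom.ker π)) = π := RingHom.ext fun x => rfl
  have he2 : e.symm.toRingHom.comp π = Ideal.Quotient.mk (RingHom.ker π) := by
    refine RingHom.ext fun x => ?_
    exact e.symm_apply_apply (Ideal.Quotient.mk (RingHom.ker π) x)
  have hl := Groth.Agent.Flat2H.FSSmoothHom.isFormallySmoothHom_of_smooth f B (RingHom.ker π) hk
    (Spec.map (CommRingCat.ofHom e.symm.toRingHom) ≫ a) b (by
      rw [Category.assoc, ← h, ← Category.assoc, ← Spec.map_comp, ← CommRingCat.ofHom_comp, he2])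
  obtain ⟨l, hl1, hl2⟩ := hl
  refine ⟨l, ?_, hl2⟩
  rw [← he1, CommRingCat.ofHom_comp, Spec.map_comp, Category.assoc, hl1, ← Category.assoc, ← Spec.map_comp,
    ← CommRingCat.ofHom_comp]
  have : e.toRingHom.comp e.symm.toRingHom = RingHom.id B₀ := by
    refine RingHom.ext fun x => ?_
    exact e.apply_symm_apply x
  rw [this]
  erw [Spec.map_id, Category.id_comp]

section Inv

variable {S : Scheme.{u}} {M : Type} [AddCommGroup M] {T T' : Over S}

/-- The inverse of a point of `D(M)`. -/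
noncomputable def ginv (g : T ⟶ AMonS S M) : T ⟶ AMonS S M := g ≫ AMonS.map S (-(AddMonoidHom.id M))

theorem amChar_ginv_mul (g : T ⟶ AMonS S M) : amChar (ginv g) * amChar g = 1 := by
  refine MonoidHom.ext fun m => ?_
  rw [ginv, amChar_map, MonoidHom.mul_apply, MonoidHom.comp_apply, ← map_mul, MonoidHom.one_apply]
  have : (AddMonoidHom.toMultiplicative (-AddMonoidHom.id M)) m * m = 1 := by
    change Multiplicative.ofAdd (-(Multiplicative.toAdd m)) * m = 1
    rw [ofAdd_neg, ofAdd_toAdd, inv_mul_cancel]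
  rw [this, map_one]

theorem ginv_mul_self (g : T ⟶ AMonS S M) : ginv g * g = 1 := by
  apply amChar_injective
  rw [amChar_mul, amChar_ginv_mul, amChar_one]

theorem comm (g h : T ⟶ AMonS S M) : g * h = h * g := by
  apply amChar_injective
  rw [amChar_mul, amChar_mul, mul_comm]

theorem self_mul_ginv (g : T ⟶ AMonS S M) : g * ginv g = 1 := by
  rw [comm, ginv_mul_self]

theorem comp_ginv (w : T' ⟶ T) (g : T ⟶ AMonS S M) : w ≫ ginv g = ginv (w ≫ g) := (Category.assoc _ _ _).symm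

/-- `g (h g)⁻¹ = h⁻¹` -/
theorem mul_ginv_mul (g h : T ⟶ AMonS S M) : g * ginv (h * g) = ginv h := by
  have h1 : ginv h * (h * g) * ginv (h * g) = g * ginv (h * g) := by
    rw [← _root_.mul_assoc, ginv_mul_self, _root_.one_mul]
  rw [← h1, _root_.mul_assoc, self_mul_ginv, _root_.mul_one]

end Inv

section Main

variable {S : Scheme.{u}} {M : Type} [AddCommGroup M]

/-- The morphism `(g, p) ↦ g⁻¹ • l₀ (g • p)`. -/
noncomputable def conj {P X : Over S} (aP : MonAct (AMonS S M) P) (aX : MonAct (AMonS S M) X) (l₀ : P ⟶ X) :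
    AMonS S M ⊗ P ⟶ X :=
  lift (ginv (fst _ _)) (aP.act ≫ l₀) ≫ aX.act

theorem lift_conj {P X : Over S} (aP : MonAct (AMonS S M) P) (aX : MonAct (AMonS S M) X) (l₀ : P ⟶ X) {T : Over S}
    (g : T ⟶ AMonS S M) (p : T ⟶ P) :
    lift g p ≫ conj aP aX l₀ = lift (ginv g) (lift g p ≫ aP.act ≫ l₀) ≫ aX.act := by
  rw [conj, ← Category.assoc, comp_lift, comp_ginv, lift_fst]

variable {B B₀ : Type u} [CommRing B] [CommRing B₀] (π : B →+* B₀)

theorem exists_equivariant_lift (hπ : Function.Surjective π) (hk : RingHom.ker π ^ 2 = ⊥)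
    {t : Spec (CommRingCat.of B) ⟶ S} {X Y : Over S} (aP : MonAct (AMonS S M) (Over.mk t))
    (aX : MonAct (AMonS S M) X) (aY : MonAct (AMonS S M) Y) (f : X ⟶ Y) (hf : IsEquivariant aX aY f)
    [Smooth f.left]
    (a₀ : AMonS S M ⊗ Over.mk (Spec.map (CommRingCat.ofHom π) ≫ t) ⟶ Over.mk (Spec.map (CommRingCat.ofHom π) ≫ t))
    (ha₀ : a₀ ≫ ov π t = (AMonS S M ◁ ov π t) ≫ aP.act)
    (x₀ : Over.mk (Spec.map (CommRingCat.ofHom π) ≫ t) ⟶ X) (hx₀ : a₀ ≫ x₀ = (AMonS S M ◁ x₀) ≫ aX.act)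
    (y : Over.mk t ⟶ Y) (hy : IsEquivariant aP aY y) (h : ov π t ≫ y = x₀ ≫ f) :
    ∃ l : Over.mk t ⟶ X, IsEquivariant aP aX l ∧ ov π t ≫ l = x₀ ∧ l ≫ f = y := by
  -- a non-equivariant lift
  obtain ⟨l₀, hl₀, hl₀'⟩ : ∃ l₀ : Over.mk t ⟶ X, ov π t ≫ l₀ = x₀ ∧ l₀ ≫ f = y := by
    obtain ⟨l, hl1, hl2⟩ := exists_lift_spec f.left π hπ hk x₀.left y.left congr(($h).left)
    refine ⟨Over.homMk l ?_, ?_, ?_⟩
    · change l ≫ X.hom = t
      rw [← Over.w f, ← Category.assoc, hl2]
      exact Over.w y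
    · ext1; exact hl1
    · ext1; exact hl2
  -- its average
  obtain ⟨l, hl, hl'⟩ := exists_isAvg hπ hk (conj aP aX l₀) x₀ (by
    apply hom_ext_lift₂
    intro T g p
    have e : lift g (p ≫ ov π t) ≫ aP.act ≫ l₀ = lift g (p ≫ x₀) ≫ aX.act := by
      rw [← lift_whiskerLeft_assoc, ← reassoc_of% ha₀, hl₀, hx₀, lift_whiskerLeft_assoc]
    rw [lift_whiskerLeft_assoc, lift_conj, lift_snd_assoc, e, ← lift_mul_act, ginv_mul_self, lift_one_act])
  refine ⟨l, ?_, hl', ?_⟩
  · -- equivariance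
    let g : aff t (MA B M) ⟶ AMonS S M := (chart t M).inv ≫ fst _ _
    let p : aff t (MA B M) ⟶ Over.mk t := (chart t M).inv ≫ snd _ _
    have hgp : lift g p = (chart t M).inv := by rw [← comp_lift, lift_fst_snd, Category.comp_id]
    let a : aff t (MA B M) ⟶ Over.mk t := (chart t M).inv ≫ aP.act
    let π' := MonoidAlgebra.mapRingHom (Multiplicative M) π
    have hπ' : Function.Surjective π' := mapRingHom_surjective M π hπ
    have hk' : RingHom.ker π' ^ 2 = ⊥ := ker_mapRingHom_sq M π hk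
    have hp : p = affTo t (MA B M) := by
      change chartInv t M ≫ snd _ _ = _
      rw [chartInv, lift_snd]
    have A2 : IsAvg hk' ((AMonS S M ◁ p) ≫ conj aP aX l₀) (p ≫ l) := by
      refine hl.base hk' p (algebraMap B (MA B M)) congr(($hp).left) (algebraMap B₀ (MA B₀ M)) ?_
      ext b
      simp [π', MonoidAlgebra.coe_algebraMap]
    have A1 : IsAvg hk' ((AMonS S M ◁ a) ≫ conj aP aX l₀) (a ≫ l) := by
      obtain ⟨φ, hφ⟩ := Spec.map_surjective (R := CommRingCat.of B) (S := CommRingCat.of (MA B M)) a.left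
      obtain ⟨φ₀, hφ₀⟩ := Spec.map_surjective (R := CommRingCat.of B₀) (S := CommRingCat.of (MA B₀ M))
        ((chart (Spec.map (CommRingCat.ofHom π) ≫ t) M).inv ≫ a₀).left
      refine hl.base hk' a φ.hom ?_ φ₀.hom ?_
      · rw [CommRingCat.ofHom_hom, hφ]
      · have h1 : Spec.map (CommRingCat.ofHom (φ₀.hom.comp π)) = Spec.map (CommRingCat.ofHom (π'.comp φ.hom)) := by
          rw [CommRingCat.ofHom_comp, CommRingCat.ofHom_comp, Spec.map_comp, Spec.map_comp, CommRingCat.ofHom_hom,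
            CommRingCat.ofHom_hom, hφ, hφ₀]
          have h2 : a₀.left ≫ Spec.map (CommRingCat.ofHom π) = (AMonS S M ◁ ov π t).left ≫ aP.act.left :=
            congr(($ha₀).left)
          have h3 : (AMonS S M ◁ ov π t).left = (chart (Spec.map (CommRingCat.ofHom π) ≫ t) M).hom.left ≫
              Spec.map (CommRingCat.ofHom π') ≫ (chart t M).inv.left := by
            have h4 := whisker_chart_of (ov π t) π rfl M
            rw [← reassoc_of% h4]
            rw [← Over.comp_left, Category.assoc, Iso.hom_inv_id, Category.comp_id]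
          change ((chart (Spec.map (CommRingCat.ofHom π) ≫ t) M).inv.left ≫ a₀.left) ≫ Spec.map (CommRingCat.ofHom π) =
            Spec.map (CommRingCat.ofHom π') ≫ (chart t M).inv.left ≫ aP.act.left
          rw [Category.assoc, h2, h3]
          simp only [Category.assoc]
          rw [← Over.comp_left_assoc, Iso.inv_hom_id]
          exact Category.id_comp _
        have h2 := Spec.map_injective h1
        exact congr(CommRingCat.Hom.hom $h2).symm
    have A3 := (isAvg_snd (t := Spec.map (CommRingCat.ofHom (algebraMap B (MA B M))) ≫ t) (M := M) hk' g).pair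
      (A2.translate g) |>.comp aX.act
    have key : (AMonS S M ◁ a) ≫ conj aP aX l₀ =
        lift (snd _ _ ≫ g) (lift (fst _ _ * (snd _ _ ≫ g)) (snd _ _) ≫ (AMonS S M ◁ p) ≫ conj aP aX l₀) ≫ aX.act := by
      apply hom_ext_lift₂
      intro T h q
      have e1 : q ≫ a = lift (q ≫ g) (q ≫ p) ≫ aP.act := by
        rw [← comp_lift_assoc, hgp]
      have e2 : lift h q ≫ lift (snd _ _ ≫ g)
          (lift (fst _ _ * (snd _ _ ≫ g)) (snd _ _) ≫ (AMonS S M ◁ p) ≫ conj aP aX l₀) ≫ aX.act =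
          lift (q ≫ g) (lift (h * (q ≫ g)) (q ≫ p) ≫ conj aP aX l₀) ≫ aX.act := by
        rw [comp_lift_assoc, lift_snd_assoc, comp_lift_assoc, MonObj.comp_mul, lift_fst, lift_snd_assoc, lift_snd,
          lift_whiskerLeft_assoc]
      rw [e2, lift_whiskerLeft_assoc, lift_conj, lift_conj, e1, ← lift_mul_act, mul_ginv_mul, lift_mul_act_assoc]
    rw [key] at A1
    have h5 := A1.unique hπ' A3
    unfold IsEquivariant
    rw [← cancel_epi (chart t M).inv]
    refine Eq.trans ?_ (h5.trans ?_)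
    · exact (Category.assoc _ _ _).symm
    · rw [← hgp, lift_whiskerLeft_assoc]
  · -- compatibility with `f`
    have h1 := hl.comp f
    have h2 : conj aP aX l₀ ≫ f = snd _ _ ≫ y := by
      apply hom_ext_lift₂
      intro T g p
      have e : (lift g p ≫ aP.act ≫ l₀) ≫ f = lift g (p ≫ y) ≫ aY.act := by
        rw [Category.assoc, Category.assoc, hl₀', hy, lift_whiskerLeft_assoc]
      rw [← Category.assoc, lift_conj, Category.assoc, hf, lift_whiskerLeft_assoc, e, ← lift_mul_act, ginv_mul_self,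
        lift_one_act, lift_snd_assoc]
    rw [h2] at h1
    exact h1.unique hπ (isAvg_snd hk y)

/-- Transport of an action along an isomorphism. -/
noncomputable def actOfIso {A P P' : Over S} [MonObj A] (e : P ≅ P') (a : MonAct A P) : MonAct A P' :=
  MonAct.mk' ((A ◁ e.inv) ≫ a.act ≫ e.hom)
    (fun T x => by
      rw [lift_whiskerLeft_assoc, lift_one_act_assoc, Category.assoc, Iso.inv_hom_id, Category.comp_id])
    (fun T g h x => by
      rw [lift_whiskerLeft_assoc, lift_whiskerLeft_assoc, lift_whiskerLeft_assoc, lift_mul_act_assoc]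
      simp only [Category.assoc, Iso.hom_inv_id, Category.comp_id])

@[simp] theorem actOfIso_act {A P P' : Over S} [MonObj A] (e : P ≅ P') (a : MonAct A P) :
    (actOfIso e a).act = (A ◁ e.inv) ≫ a.act ≫ e.hom := rfl

theorem isEquivariant_actOfIso_iff {A P P' X : Over S} [MonObj A] (e : P ≅ P') (a : MonAct A P) (aX : MonAct A X)
    (f : P' ⟶ X) : IsEquivariant (actOfIso e a) aX f ↔ IsEquivariant a aX (e.hom ≫ f) := by
  unfold IsEquivariant
  rw [actOfIso_act, ← cancel_epi (A ◁ e.hom)]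
  simp only [Category.assoc, MonoidalCategory.whiskerLeft_comp]
  rw [← MonoidalCategory.whiskerLeft_comp_assoc, Iso.hom_inv_id, MonoidalCategory.whiskerLeft_id, Category.id_comp]

theorem exists_lift_of_iso (hπ : Function.Surjective π) (hk : RingHom.ker π ^ 2 = ⊥)
    {t : Spec (CommRingCat.of B) ⟶ S} {P P₀ X Y : Over S} (e : P ≅ Over.mk t)
    (e₀ : P₀ ≅ Over.mk (Spec.map (CommRingCat.ofHom π) ≫ t)) (i : P₀ ⟶ P) (hi : i ≫ e.hom = e₀.hom ≫ ov π t)
    (aP : MonAct (AMonS S M) P)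
    (aX : MonAct (AMonS S M) X) (aY : MonAct (AMonS S M) Y) (f : X ⟶ Y) (hf : IsEquivariant aX aY f)
    [Smooth f.left]
    (a₀ : AMonS S M ⊗ P₀ ⟶ P₀) (ha₀ : a₀ ≫ i = (AMonS S M ◁ i) ≫ aP.act)
    (x₀ : P₀ ⟶ X) (hx₀ : a₀ ≫ x₀ = (AMonS S M ◁ x₀) ≫ aX.act)
    (y : P ⟶ Y) (hy : IsEquivariant aP aY y) (h : i ≫ y = x₀ ≫ f) :
    ∃ l : P ⟶ X, IsEquivariant aP aX l ∧ i ≫ l = x₀ ∧ l ≫ f = y := by
  have hi' : e₀.inv ≫ i = ov π t ≫ e.inv := by
    rw [Iso.inv_comp_eq, ← Category.assoc, Iso.eq_comp_inv, hi]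
  obtain ⟨l, h1, h2, h3⟩ := exists_equivariant_lift π hπ hk (actOfIso e aP) aX aY f hf
    ((AMonS S M ◁ e₀.inv) ≫ a₀ ≫ e₀.hom) (by
      rw [actOfIso_act, Category.assoc, Category.assoc, ← hi, reassoc_of% ha₀, ← MonoidalCategory.whiskerLeft_comp_assoc,
        ← MonoidalCategory.whiskerLeft_comp_assoc, hi']) (e₀.inv ≫ x₀) (by
      simp only [Category.assoc, Iso.hom_inv_id_assoc]
      rw [hx₀, MonoidalCategory.whiskerLeft_comp, Category.assoc]) (e.inv ≫ y) (by
      rw [isEquivariant_actOfIso_iff, Iso.hom_inv_id_assoc]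
      exact hy) (by
      rw [← Category.assoc, ← hi', Category.assoc, Category.assoc, h])
  refine ⟨e.hom ≫ l, (isEquivariant_actOfIso_iff _ _ _ _).1 h1, ?_, ?_⟩
  · rw [← Category.assoc, hi, Category.assoc, h2, Iso.hom_inv_id_assoc]
  · rw [Category.assoc, h3, Iso.hom_inv_id_assoc]

end Main

end K949.EqLift
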