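import Groth.Agent.Magnet.K949.Dominant
import Groth.Agent.Magnet.K951.Dense
import Groth.Agent.Magnet.K951.Psh

/-!
# Equivariant maps out of `B ⊗ T` are determined by their value at the unit section on the image of the acting monoid
-/

set_option autoImplicit false
universe v₁ u₁ u
open CategoryTheory MonoidalCategory CartesianMonoidalCategory MonObj AlgebraicGeometry Limits Opposite

namespace K949.Eval

open Magnet Magnet.MonAct

section General

variable {C : Type u₁} [Category.{v₁} C] [CartesianMonoidalCategory C] {A B X : C} [MonObj A] [MonObj B]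

/-- `φ (i g, t) = g • φ (1, t)`. -/
theorem whiskerRight_comp (i : A ⟶ B) [IsMonHom i] (a : MonAct A X) {T : C} (φ : B ⊗ T ⟶ X)
    (hφ : IsEquivariant (((regular B).restrict i).prod (trivial A T)) a φ) :
    (i ▷ T) ≫ φ = (A ◁ (lift (toUnit T ≫ η[B]) (𝟙 T) ≫ φ)) ≫ a.act := by
  rw [mem_eqvHom_iff] at hφ
  apply hom_ext_lift₂
  intro T' g t
  rw [lift_whiskerRight_assoc, lift_whiskerLeft_assoc]
  have h := hφ T' g 1 t
  rw [lift_restrict_act, lift_regular_act, _root_.mul_one] at h
  rw [h]
  congr 2
  rw [← Category.assoc, comp_lift, Category.comp_id, ← Category.assoc, toUnit_unique (t ≫ toUnit T) (toUnit T')]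
  rfl

end General

section Over

variable {S : Scheme.{u}} {M : Type} [AddCommMonoid M] {X Y : Over S}

/-- Injectivity of restriction along `A(N')_T ⟶ A(N)_T` for a separated target. -/
theorem eq_of_map {N N' : Type} [AddCommMonoid N] [AddCommMonoid N'] (f : N →+ N') (hf : Function.Injective f)
    [IsSeparated X.hom] (T : Over S) (φ ψ : AMonS S N ⊗ T ⟶ X)
    (h : (AMonS.map S f ▷ T) ≫ φ = (AMonS.map S f ▷ T) ≫ ψ) : φ = ψ := by
  have := K949.Dominant.dominant_map f hf T
  exact K951.Dense.eq_of_separated_over (AMonS.map S f ▷ T) φ ψ h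

/-- For an equivariant closed immersion `X ⟶ Y` one has `X^N = X ×_Y Y^N`. -/
theorem isPullback_of_isClosedImmersion (N : AddSubmonoid M) (aX : MonAct (AMonS S M) X) (aY : MonAct (AMonS S M) Y)
    (f : X ⟶ Y) [IsClosedImmersion f.left] (hf : IsEquivariant aX aY f) :
    IsPullback (eqvHom.postcomp (subAct S M N) f hf) (attrToX aX N) (attrToX aY N) (yoneda.map f) := by
  have hm : Mono f := Over.mono_of_mono_left f
  refine K951.Psh.isPullback_postcomp_evalAt (subAct S M N) aX aY f hf η[AMonS S N] ?_
  intro T φ hφ x hx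
  have := K949.Dominant.dominant_map (S := S) N.subtype Subtype.val_injective T
  refine K951.Dense.exists_factor_over (AMonS.map S N.subtype ▷ T) f φ ((AMonS S M ◁ x) ≫ aX.act) ?_
  rw [whiskerRight_comp _ aY φ hφ, hx, Category.assoc, hf, MonoidalCategory.whiskerLeft_comp, Category.assoc]

end Over

end K949.Eval
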