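import Groth.Agent.Magnet.K949.SmoothAttr

/-!
# Equivariant lifting from a pushout of closed subschemes
-/

set_option autoImplicit false
universe u
open CategoryTheory MonoidalCategory CartesianMonoidalCategory MonObj AlgebraicGeometry Limits Opposite

namespace K949.FaceLift

open K949.Pts K949.Chart K949.Thick K949.Fib K949.Avg K949.EqLift K949.SmoothAttr Magnet Magnet.MonAct
  Groth.Agent.FlatB.PushRing

section Cat

variable {S : Scheme.{u}} {G : Over S} [MonObj G] {P₁ P₂ P₃ P₄ : Over S} {a : P₁ ⟶ P₂} {b : P₁ ⟶ P₃}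
  {c : P₂ ⟶ P₄} {d : P₃ ⟶ P₄}

/-- The action morphism on a pushout. -/
theorem exists_act (h : IsPushout a b c d) (hG : IsPushout (G ◁ a) (G ◁ b) (G ◁ c) (G ◁ d))
    (α₁ : MonAct G P₁) (α₂ : MonAct G P₂) (α₃ : MonAct G P₃) (ha : IsEquivariant α₁ α₂ a)
    (hb : IsEquivariant α₁ α₃ b) :
    ∃ a₀ : G ⊗ P₄ ⟶ P₄, ∀ (Z : Over S) (aZ : MonAct G Z) (z : P₄ ⟶ Z), IsEquivariant α₂ aZ (c ≫ z) →
      IsEquivariant α₃ aZ (d ≫ z) → a₀ ≫ z = (G ◁ z) ≫ aZ.act := by
  have hw : (G ◁ a) ≫ α₂.act ≫ c = (G ◁ b) ≫ α₃.act ≫ d := by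
    rw [← Category.assoc, ← ha, ← Category.assoc, ← hb, Category.assoc, Category.assoc, h.w]
  refine ⟨hG.desc (α₂.act ≫ c) (α₃.act ≫ d) hw, fun Z aZ z h1 h2 => hG.hom_ext ?_ ?_⟩
  · rw [hG.inl_desc_assoc, Category.assoc, h1, MonoidalCategory.whiskerLeft_comp, Category.assoc]
  · rw [hG.inr_desc_assoc, Category.assoc, h2, MonoidalCategory.whiskerLeft_comp, Category.assoc]

end Cat

section Iso

variable {S : Scheme.{u}} {E A' B A : Type u} [CommRing E] [CommRing A'] [CommRing B] [CommRing A]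
  {α : E →+* A'} {β : E →+* B} {p : A' →+* A} {q : B →+* A}

theorem conj_left {P P' : Over S} {Z Z' : Scheme.{u}} {s : Z ⟶ S} {s' : Z' ⟶ S} (e : P ≅ Over.mk s)
    (e' : P' ≅ Over.mk s') (a : P ⟶ P') (j : Z ⟶ Z') (h : (a ≫ e'.hom).left = e.hom.left ≫ j) :
    (e.inv ≫ a ≫ e'.hom).left = j := by
  rw [Over.comp_left, h, ← Category.assoc, ← Over.comp_left, Iso.inv_hom_id]
  exact Category.id_comp _

theorem isPushout_iso (h : IsFib α β p q) (hp : Function.Surjective p)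
    {t₁ : Spec (CommRingCat.of A) ⟶ S} {t₂ : Spec (CommRingCat.of A') ⟶ S} {t₃ : Spec (CommRingCat.of B) ⟶ S}
    {t₄ : Spec (CommRingCat.of E) ⟶ S} {P₁ P₂ P₃ P₄ : Over S} (e₁ : P₁ ≅ Over.mk t₁) (e₂ : P₂ ≅ Over.mk t₂)
    (e₃ : P₃ ≅ Over.mk t₃) (e₄ : P₄ ≅ Over.mk t₄) (a : P₁ ⟶ P₂) (b : P₁ ⟶ P₃) (c : P₂ ⟶ P₄) (d : P₃ ⟶ P₄)
    (ha : (a ≫ e₂.hom).left = e₁.hom.left ≫ Spec.map (CommRingCat.ofHom p))
    (hb : (b ≫ e₃.hom).left = e₁.hom.left ≫ Spec.map (CommRingCat.ofHom q))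
    (hc : (c ≫ e₄.hom).left = e₂.hom.left ≫ Spec.map (CommRingCat.ofHom α))
    (hd : (d ≫ e₄.hom).left = e₃.hom.left ≫ Spec.map (CommRingCat.ofHom β)) :
    IsPushout a b c d ∧ ∀ (M : Type) [AddCommMonoid M],
      IsPushout (AMonS S M ◁ a) (AMonS S M ◁ b) (AMonS S M ◁ c) (AMonS S M ◁ d) := by
  constructor
  · have h1 := h.isPushout_over hp _ _ _ _ (conj_left e₁ e₂ a _ ha) (conj_left e₁ e₃ b _ hb) (conj_left e₂ e₄ c _ hc)
      (conj_left e₃ e₄ d _ hd)
    exact IsPushout.of_iso h1 e₁.symm e₂.symm e₃.symm e₄.symm (by simp) (by simp) (by simp) (by simp)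
  · intro M _
    have h1 := h.isPushout_whisker hp _ _ _ _ (conj_left e₁ e₂ a _ ha) (conj_left e₁ e₃ b _ hb)
      (conj_left e₂ e₄ c _ hc) (conj_left e₃ e₄ d _ hd) M
    refine IsPushout.of_iso h1 (whiskerLeftIso _ e₁).symm (whiskerLeftIso _ e₂).symm (whiskerLeftIso _ e₃).symm
      (whiskerLeftIso _ e₄).symm ?_ ?_ ?_ ?_
    all_goals
      simp only [Iso.symm_hom, whiskerLeftIso_inv, ← MonoidalCategory.whiskerLeft_comp, Category.assoc,
        Iso.hom_inv_id, Category.comp_id]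

end Iso

section Ring

variable {B A' B' A'' : Type u} [CommRing B] [CommRing A'] [CommRing B'] [CommRing A'']
  {f : B →+* A'} {m : B →+* B'} {p : A' →+* A''} {q : B' →+* A''}

theorem lift_surjective (h : p.comp f = q.comp m) (hm : Function.Surjective m) (σ : A' →+* B) (hσ : f.comp σ = RingHom.id A')
    (σ' : A'' →+* B') (h' : m.comp σ = σ'.comp p) : Function.Surjective (eqL.lift f m h) := by
  rintro ⟨⟨a, b⟩, hab⟩
  rw [mem_eqL] at hab
  obtain ⟨c, hc⟩ := hm b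
  have h1 : f (σ (f c - a)) = f c - a := congr($hσ (f c - a))
  have h2 : m (σ (f c - a)) = σ' (p (f c - a)) := congr($h' (f c - a))
  have h3 : p (f c) = q (m c) := congr($h c)
  refine ⟨c - σ (f c - a), eqL.ext ?_ ?_⟩
  · change f (c - σ (f c - a)) = a
    rw [map_sub, h1, sub_sub_cancel]
  · change m (c - σ (f c - a)) = b
    rw [map_sub, h2, map_sub, h3, hc, hab, sub_self, map_zero, sub_zero]

theorem ker_lift_sq (h : p.comp f = q.comp m) (hk : RingHom.ker m ^ 2 = ⊥) : RingHom.ker (eqL.lift f m h) ^ 2 = ⊥ := by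
  rw [eq_bot_iff, ← hk]
  refine Ideal.pow_right_mono ?_ 2
  intro x hx
  rw [RingHom.mem_ker] at hx ⊢
  exact congr(($hx).1.2)

end Ring

section Main

variable {S : Scheme.{u}} {M : Type} [AddCommGroup M] {B A' B' A'' : Type u} [CommRing B] [CommRing A'] [CommRing B']
  [CommRing A''] (f : B →+* A') (m : B →+* B') (p : A' →+* A'') (q : B' →+* A'')

/-- Equivariant lifting from the union of a closed subscheme and a square-zero thickening. -/
theorem exists_lift_fib (h : p.comp f = q.comp m) (hp : Function.Surjective p) (hs : Function.Surjective (eqL.lift f m h))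
    (hk : RingHom.ker m ^ 2 = ⊥)
    {t : Spec (CommRingCat.of B) ⟶ S} {t₁ : Spec (CommRingCat.of A'') ⟶ S} {t₂ : Spec (CommRingCat.of A') ⟶ S}
    {t₃ : Spec (CommRingCat.of B') ⟶ S} {P P₁ P₂ P₃ : Over S} (e : P ≅ Over.mk t) (e₁ : P₁ ≅ Over.mk t₁)
    (e₂ : P₂ ≅ Over.mk t₂) (e₃ : P₃ ≅ Over.mk t₃) (a : P₁ ⟶ P₂) (b : P₁ ⟶ P₃) (u : P₂ ⟶ P) (v : P₃ ⟶ P)
    (ha : (a ≫ e₂.hom).left = e₁.hom.left ≫ Spec.map (CommRingCat.ofHom p))
    (hb : (b ≫ e₃.hom).left = e₁.hom.left ≫ Spec.map (CommRingCat.ofHom q))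
    (hu : (u ≫ e.hom).left = e₂.hom.left ≫ Spec.map (CommRingCat.ofHom f))
    (hv : (v ≫ e.hom).left = e₃.hom.left ≫ Spec.map (CommRingCat.ofHom m))
    (aP : MonAct (AMonS S M) P) (α₁ : MonAct (AMonS S M) P₁) (α₂ : MonAct (AMonS S M) P₂) (α₃ : MonAct (AMonS S M) P₃)
    (ha' : IsEquivariant α₁ α₂ a) (hb' : IsEquivariant α₁ α₃ b) (hu' : IsEquivariant α₂ aP u)
    (hv' : IsEquivariant α₃ aP v) {X Y : Over S} (aX : MonAct (AMonS S M) X) (aY : MonAct (AMonS S M) Y) (g : X ⟶ Y)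
    (hg : IsEquivariant aX aY g) [Smooth g.left] (x₂ : P₂ ⟶ X) (x₃ : P₃ ⟶ X) (hx₂ : IsEquivariant α₂ aX x₂)
    (hx₃ : IsEquivariant α₃ aX x₃) (hx : a ≫ x₂ = b ≫ x₃) (y : P ⟶ Y) (hy : IsEquivariant aP aY y)
    (hy₂ : u ≫ y = x₂ ≫ g) (hy₃ : v ≫ y = x₃ ≫ g) :
    ∃ l : P ⟶ X, IsEquivariant aP aX l ∧ u ≫ l = x₂ ∧ v ≫ l = x₃ ∧ l ≫ g = y := by
  let π := eqL.lift f m h
  have hk' : RingHom.ker π ^ 2 = ⊥ := ker_lift_sq h hk
  have hf : (eqL.fst p q).comp π = f := rfl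
  have hm : (eqL.snd p q).comp π = m := rfl
  have ht₂ : Spec.map (CommRingCat.ofHom f) ≫ t = t₂ := by
    rw [← conj_left e₂ e u _ hu]
    exact Over.w (e₂.inv ≫ u ≫ e.hom)
  have ht₃ : Spec.map (CommRingCat.ofHom m) ≫ t = t₃ := by
    rw [← conj_left e₃ e v _ hv]
    exact Over.w (e₃.inv ≫ v ≫ e.hom)
  let c' : Over.mk t₂ ⟶ Over.mk (Spec.map (CommRingCat.ofHom π) ≫ t) :=
    Over.homMk (Spec.map (CommRingCat.ofHom (eqL.fst p q))) (by
      change Spec.map _ ≫ Spec.map _ ≫ t = t₂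
      rw [← Spec.map_comp_assoc, ← CommRingCat.ofHom_comp, hf, ht₂])
  let d' : Over.mk t₃ ⟶ Over.mk (Spec.map (CommRingCat.ofHom π) ≫ t) :=
    Over.homMk (Spec.map (CommRingCat.ofHom (eqL.snd p q))) (by
      change Spec.map _ ≫ Spec.map _ ≫ t = t₃
      rw [← Spec.map_comp_assoc, ← CommRingCat.ofHom_comp, hm, ht₃])
  obtain ⟨hpo, hpoG⟩ := isPushout_iso (isFib_eqL p q) hp e₁ e₂ e₃ (Iso.refl _) a b (e₂.hom ≫ c') (e₃.hom ≫ d') ha hb
    (by rw [Iso.refl_hom, Category.comp_id]; rfl) (by rw [Iso.refl_hom, Category.comp_id]; rfl)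
  obtain ⟨a₀, ha₀⟩ := exists_act hpo (hpoG M) α₁ α₂ α₃ ha' hb'
  have hc : (e₂.hom ≫ c') ≫ (ov π t ≫ e.inv) = u := by
    have h1 : c' ≫ ov π t = e₂.inv ≫ u ≫ e.hom := by
      ext1
      rw [conj_left e₂ e u _ hu, ← hf]
      change Spec.map _ ≫ Spec.map _ = Spec.map _
      rw [← Spec.map_comp, ← CommRingCat.ofHom_comp]
    rw [Category.assoc, reassoc_of% h1]
    simp
  have hd : (e₃.hom ≫ d') ≫ (ov π t ≫ e.inv) = v := by
    have h1 : d' ≫ ov π t = e₃.inv ≫ v ≫ e.hom := by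
      ext1
      rw [conj_left e₃ e v _ hv, ← hm]
      change Spec.map _ ≫ Spec.map _ = Spec.map _
      rw [← Spec.map_comp, ← CommRingCat.ofHom_comp]
    rw [Category.assoc, reassoc_of% h1]
    simp
  obtain ⟨l, hl1, hl2, hl3⟩ := exists_lift_of_iso π hs hk' e (Iso.refl _) (ov π t ≫ e.inv) (by simp) aP aX aY g hg a₀
    (ha₀ _ aP (ov π t ≫ e.inv) (by rw [hc]; exact hu') (by rw [hd]; exact hv')) (hpo.desc x₂ x₃ hx)
    (ha₀ _ aX _ (by rw [hpo.inl_desc]; exact hx₂) (by rw [hpo.inr_desc]; exact hx₃)) y hy (by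
      apply hpo.hom_ext
      · rw [← Category.assoc, hc, hpo.inl_desc_assoc, hy₂]
      · rw [← Category.assoc, hd, hpo.inr_desc_assoc, hy₃])
  refine ⟨l, hl1, ?_, ?_, hl3⟩
  · rw [← hc, Category.assoc, hl2, hpo.inl_desc]
  · rw [← hd, Category.assoc, hl2, hpo.inr_desc]

end Main

section Face

theorem whiskerRight_equivariant {S : Scheme.{u}} {G B B' : Over S} [MonObj G] {ρ' : MonAct G B'} {ρ : MonAct G B}
    (ψ : B' ⟶ B) (h : IsEquivariant ρ' ρ ψ) (T : Over S) :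
    IsEquivariant (ρ'.prod (trivial G T)) (ρ.prod (trivial G T)) (ψ ▷ T) := by
  rw [isEquivariant_iff] at h ⊢
  intro T' g z
  rw [← lift_comp_fst_snd z, lift_prod_act_assoc, lift_trivial_act, lift_whiskerRight, lift_whiskerRight,
    lift_prod_act, lift_trivial_act, Category.assoc, h]

theorem equivariant_toUnit {S : Scheme.{u}} {G X : Over S} [MonObj G] (a : MonAct G X) :
    IsEquivariant a (trivial G (𝟙_ (Over S))) (toUnit X) := toUnit_unique _ _

variable {A A₀ : Type u} [CommRing A] [CommRing A₀] (φ : A →+* A₀) {M : Type} [AddCommMonoid M] {N F : AddSubmonoid M}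
  (hF : IsFace N F)

/-- the face map as a ring hom -/
noncomputable abbrev faceR (A : Type u) [CommRing A] : MA A N →+* MA A F := (faceAlgHom A hF).toRingHom

theorem map_faceR : (MonoidAlgebra.mapRingHom (Multiplicative F) φ).comp (faceR hF A) =
    (faceR hF A₀).comp (MonoidAlgebra.mapRingHom (Multiplicative N) φ) := by
  apply MonoidAlgebra.ringHom_ext
  · intro r
    have h1 : ∀ (R : Type u) [CommRing R] (r : R), faceR hF R (MonoidAlgebra.single 1 r) = MonoidAlgebra.single 1 r :=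
      fun R _ r => faceAlgHom_single_of_mem R hF 0 F.zero_mem r
    rw [RingHom.comp_apply, RingHom.comp_apply, h1, MonoidAlgebra.mapRingHom_single, MonoidAlgebra.mapRingHom_single, h1]
  · intro n
    rw [RingHom.comp_apply, RingHom.comp_apply, MonoidAlgebra.mapRingHom_single]
    by_cases hn : ((Multiplicative.toAdd n : ↥N) : M) ∈ F
    · have h1 : ∀ (R : Type u) [CommRing R] (r : R), faceR hF R (MonoidAlgebra.single n r) =
          MonoidAlgebra.single (Multiplicative.ofAdd (⟨_, hn⟩ : ↥F)) r :=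
        fun R _ r => faceAlgHom_single_of_mem R hF (Multiplicative.toAdd n) hn r
      rw [h1, h1, MonoidAlgebra.mapRingHom_single]
    · have h1 : ∀ (R : Type u) [CommRing R] (r : R), faceR hF R (MonoidAlgebra.single n r) = 0 :=
        fun R _ r => faceAlgHom_single_of_not_mem R hF (Multiplicative.toAdd n) hn r
      rw [h1, h1, map_zero]

theorem exists_section : ∃ (s : MA A F →+* MA A N) (s' : MA A₀ F →+* MA A₀ N),
    (faceR hF A).comp s = RingHom.id _ ∧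
      (MonoidAlgebra.mapRingHom (Multiplicative N) φ).comp s = s'.comp (MonoidAlgebra.mapRingHom (Multiplicative F) φ) := by
  refine ⟨(MonoidAlgebra.mapDomainBialgHom A
    (AddMonoidHom.toMultiplicative (AddSubmonoid.inclusion hF.le))).toAlgHom.toRingHom,
    (MonoidAlgebra.mapDomainBialgHom A₀
    (AddMonoidHom.toMultiplicative (AddSubmonoid.inclusion hF.le))).toAlgHom.toRingHom, ?_, ?_⟩
  · have h := faceAlgHom_comp_mapDomain A hF
    exact congrArg (fun ψ : MA A F →ₐ[A] MA A F => ψ.toRingHom) h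
  · apply MonoidAlgebra.ringHom_ext
    · intro r
      simp
    · intro n
      simp

end Face

section Result

variable {S : Scheme.{u}} {M : Type} [AddCommGroup M] {A A₀ : Type u} [CommRing A] [CommRing A₀] (φ : A →+* A₀)
  {t : Spec (CommRingCat.of A) ⟶ S}  {N F : AddSubmonoid M} (hF : IsFace N F)

/-- Lifting of equivariant morphisms along `A(F) ⊗ T ∪ A(N) ⊗ T₀ ⟶ A(N) ⊗ T`. -/
theorem exists_lift_face (hφ : Function.Surjective φ) (hk : RingHom.ker φ ^ 2 = ⊥) {X Y : Over S}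
    (aX : MonAct (AMonS S M) X) (aY : MonAct (AMonS S M) Y) (g : X ⟶ Y) (hg : IsEquivariant aX aY g)
    [Smooth g.left] (x : AMonS S N ⊗ Over.mk (Spec.map (CommRingCat.ofHom φ) ≫ t) ⟶ X)
    (hx : IsEquivariant ((subAct S M N).prod (trivial (AMonS S M) _)) aX x)
    (x' : AMonS S F ⊗ Over.mk t ⟶ X)
    (hx' : IsEquivariant ((subAct S M F).prod (trivial (AMonS S M) _)) aX x')
    (h : (AMonS S F ◁ ov φ t) ≫ x' = (AMonS.faceMap S hF ▷ _) ≫ x)
    (y : AMonS S N ⊗ Over.mk t ⟶ Y)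
    (hy : IsEquivariant ((subAct S M N).prod (trivial (AMonS S M) _)) aY y)
    (h1 : (AMonS S N ◁ ov φ t) ≫ y = x ≫ g) (h2 : (AMonS.faceMap S hF ▷ _) ≫ y = x' ≫ g) :
    ∃ l : AMonS S N ⊗ Over.mk t ⟶ X, IsEquivariant ((subAct S M N).prod (trivial (AMonS S M) _)) aX l ∧
      (AMonS.faceMap S hF ▷ _) ≫ l = x' ∧ (AMonS S N ◁ ov φ t) ≫ l = x ∧ l ≫ g = y := by
  obtain ⟨s, s', hs, hs'⟩ := exists_section φ hF
  exact exists_lift_fib (faceR hF A) (MonoidAlgebra.mapRingHom (Multiplicative N) φ)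
    (MonoidAlgebra.mapRingHom (Multiplicative F) φ) (faceR hF A₀) (map_faceR φ hF) (mapRingHom_surjective F φ hφ)
    (lift_surjective (map_faceR φ hF) (mapRingHom_surjective N φ hφ) s hs s' hs')
    (ker_mapRingHom_sq N φ hk) (chart t N) (chart (Spec.map (CommRingCat.ofHom φ) ≫ t) F) (chart t F)
    (chart (Spec.map (CommRingCat.ofHom φ) ≫ t) N) (AMonS S F ◁ ov φ t) (AMonS.faceMap S hF ▷ _)
    (AMonS.faceMap S hF ▷ _) (AMonS S N ◁ ov φ t) (whisker_chart φ t F)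
    (congrArg Over.Hom.left (face_chart (Spec.map (CommRingCat.ofHom φ) ≫ t) hF)) (congrArg Over.Hom.left (face_chart t hF))
    (whisker_chart φ t N) ((subAct S M N).prod (trivial (AMonS S M) _)) ((subAct S M F).prod (trivial (AMonS S M) _))
    ((subAct S M F).prod (trivial (AMonS S M) _)) ((subAct S M N).prod (trivial (AMonS S M) _))
    (prod_trivial_act_whiskerLeft _ _) (whiskerRight_equivariant _ (isEquivariant_faceMapS S hF) _)
    (whiskerRight_equivariant _ (isEquivariant_faceMapS S hF) _)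
    (prod_trivial_act_whiskerLeft _ _) aX aY g hg x' x hx' hx h y hy h2 h1

end Result

end K949.FaceLift
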