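import Mathlib.LinearAlgebra.Dual.Lemmas
import Mathlib.LinearAlgebra.Quotient.Basic
import Mathlib.Topology.Algebra.Order.Field
import Mathlib.Topology.Instances.Rat
import Mathlib.Algebra.Module.LocalizedModule.Basic
import Mathlib.RingTheory.Localization.BaseChange
import Mathlib.Algebra.Module.Submodule.Bilinear
import Mathlib.GroupTheory.Finiteness
import Groth.Prelude.Def_Magnet4

/-!
# Height functions on finitely generated submonoids of abelian groups

`K949.Height.exists_height`: for a finitely generated submonoid `N` of a commutative group and a face `F` of `N` there is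
an additive `h : N →+ ℕ` with `h n = 0 ↔ n ∈ F`.
-/

set_option autoImplicit false
universe u v w

open Magnet

namespace K949.Height

open Filter Topology in
/-- Gordan's theorem of the alternative over `ℚ`. -/
theorem gordan {ι : Type w} (s : Finset ι) : ∀ {V : Type v} [AddCommGroup V] [Module ℚ V] (x : ι → V)
    (_ : ∀ y : ι → ℚ, (∀ i ∈ s, 0 ≤ y i) → ∑ i ∈ s, y i • x i = 0 → ∀ i ∈ s, y i = 0),
    ∃ l : V →ₗ[ℚ] ℚ, ∀ i ∈ s, 0 < l (x i) := by
  classical
  induction s using Finset.induction_on with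
  | empty => intro V _ _ x _; exact ⟨0, by simp⟩
  | insert a s ha ih =>
    intro V _ _ x h
    have hxa : x a ≠ 0 := by
      intro h0
      have := h (Pi.single a 1) (fun i _ => by by_cases hi : i = a <;> simp [hi]) (by
        rw [Finset.sum_insert ha]
        simp only [Pi.single_eq_same, h0, smul_zero, zero_add]
        refine Finset.sum_eq_zero fun i hi => ?_
        rw [Pi.single_eq_of_ne (by rintro rfl; exact ha hi), zero_smul]) a (Finset.mem_insert_self _ _)
      simp at this
    by_cases hA : ∀ y : ι → ℚ, (∀ i ∈ s, 0 ≤ y i) →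
        ∑ i ∈ s, y i • (Submodule.span ℚ {x a}).mkQ (x i) = 0 → ∀ i ∈ s, y i = 0
    · obtain ⟨l₀, hl₀⟩ := ih (fun i => (Submodule.span ℚ {x a}).mkQ (x i)) hA
      let l : V →ₗ[ℚ] ℚ := l₀.comp (Submodule.span ℚ {x a}).mkQ
      have hla : l (x a) = 0 := by
        have : (Submodule.span ℚ {x a}).mkQ (x a) = 0 := by
          rw [Submodule.mkQ_apply, Submodule.Quotient.mk_eq_zero]
          exact Submodule.mem_span_singleton_self _
        change l₀ _ = 0
        rw [this, map_zero]
      obtain ⟨l', hl'⟩ : ∃ l' : V →ₗ[ℚ] ℚ, l' (x a) = 1 := by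
        obtain ⟨f, hf⟩ : ∃ f : Module.Dual ℚ V, f (x a) ≠ 0 := by
          by_contra hcon
          push Not at hcon
          exact hxa ((Module.forall_dual_apply_eq_zero_iff ℚ (x a)).1 hcon)
        exact ⟨(f (x a))⁻¹ • f, by simp [hf]⟩
      have hev : ∀ᶠ ε : ℚ in 𝓝[>] 0, ∀ i ∈ s, 0 < l (x i) + ε * l' (x i) := by
        rw [Finset.eventually_all]
        intro i hi
        have hc : Tendsto (fun ε : ℚ => l (x i) + ε * l' (x i)) (𝓝[>] 0) (𝓝 (l (x i) + 0 * l' (x i))) := by
          apply Tendsto.mono_left _ nhdsWithin_le_nhds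
          exact (Continuous.tendsto (by fun_prop) 0)
        have h0 : 0 < l (x i) + 0 * l' (x i) := by
          rw [zero_mul, add_zero]
          exact hl₀ i hi
        exact hc.eventually (lt_mem_nhds h0)
      obtain ⟨ε, hε, hε0⟩ := (hev.and self_mem_nhdsWithin).exists
      refine ⟨l + ε • l', fun i hi => ?_⟩
      rw [Finset.mem_insert] at hi
      rcases hi with rfl | hi
      · simpa [hla, hl'] using hε0
      · simpa using hε i hi
    · push Not at hA
      obtain ⟨y, hy, hsum, i₀, hi₀, hy₀⟩ := hA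
      have hmem : ∑ i ∈ s, y i • x i ∈ Submodule.span ℚ {x a} := by
        rw [← Submodule.Quotient.mk_eq_zero, ← Submodule.mkQ_apply, map_sum]
        simpa using hsum
      obtain ⟨c, hc⟩ := Submodule.mem_span_singleton.1 hmem
      have hcpos : 0 < c := by
        by_contra hcn
        have := h (Function.update y a (-c)) (fun i hi => by
          rw [Finset.mem_insert] at hi
          by_cases hia : i = a
          · subst hia; simpa using hcn
          · rw [Function.update_of_ne hia]
            exact hy i (hi.resolve_left hia)) (by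
          rw [Finset.sum_insert ha, Function.update_self]
          have : ∑ i ∈ s, Function.update y a (-c) i • x i = ∑ i ∈ s, y i • x i :=
            Finset.sum_congr rfl fun i hi => by
              rw [Function.update_of_ne (by rintro rfl; exact ha hi)]
          rw [this, ← hc, neg_smul, neg_add_cancel]) i₀ (Finset.mem_insert_of_mem hi₀)
        rw [Function.update_of_ne (by rintro rfl; exact ha hi₀)] at this
        exact hy₀ this
      obtain ⟨l, hl⟩ := ih x (fun z hz hzs i hi => by
        have := h (Function.update z a 0) (fun j hj => by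
          rw [Finset.mem_insert] at hj
          by_cases hja : j = a
          · subst hja; simp
          · rw [Function.update_of_ne hja]
            exact hz j (hj.resolve_left hja)) (by
          rw [Finset.sum_insert ha, Function.update_self, zero_smul, zero_add, ← hzs]
          exact Finset.sum_congr rfl fun j hj => by
              rw [Function.update_of_ne (by rintro rfl; exact ha hj)]) i (Finset.mem_insert_of_mem hi)
        rwa [Function.update_of_ne (by rintro rfl; exact ha hi)] at this)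
      refine ⟨l, fun i hi => ?_⟩
      rw [Finset.mem_insert] at hi
      rcases hi with rfl | hi
      · have h1 : c * l (x i) = ∑ j ∈ s, y j * l (x j) := by
          rw [← smul_eq_mul, ← map_smul, hc, map_sum]
          simp
        have h2 : 0 < ∑ j ∈ s, y j * l (x j) :=
          Finset.sum_pos' (fun j hj => mul_nonneg (hy j hj) (hl j hj).le)
            ⟨i₀, hi₀, mul_pos (lt_of_le_of_ne (hy i₀ hi₀) (Ne.symm hy₀)) (hl i₀ hi₀)⟩
        rw [← h1] at h2
        exact (mul_pos_iff_of_pos_left hcpos).1 h2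
      · exact hl i hi

/-- Common denominators of finitely many non-negative rationals. -/
theorem exists_den {ι : Type w} (s : Finset ι) (y : ι → ℚ) (hy : ∀ i ∈ s, 0 ≤ y i) :
    ∃ D : ℕ, 0 < D ∧ ∀ i ∈ s, ∃ n : ℕ, (D : ℚ) * y i = n := by
  classical
  refine ⟨∏ i ∈ s, (y i).den, Finset.prod_pos fun i _ => (y i).den_pos, fun i hi => ?_⟩
  obtain ⟨k, hk⟩ := Finset.dvd_prod_of_mem (fun i => (y i).den) hi
  refine ⟨k * (y i).num.toNat, ?_⟩
  have h1 : ((y i).num.toNat : ℚ) = (y i).num := by
    have : (((y i).num.toNat : ℤ) : ℚ) = ((y i).num : ℚ) := by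
      rw [Int.toNat_of_nonneg (Rat.num_nonneg.2 (hy i hi))]
    exact_mod_cast this
  rw [hk]
  push_cast
  rw [h1, mul_comm ((y i).den : ℚ) (k : ℚ), mul_assoc, Rat.den_mul_eq_num]

/-- An element of a `ℤ`-module which vanishes after tensoring with `ℚ` is torsion. -/
theorem exists_nsmul_eq_zero {G : Type v} [AddCommGroup G] (g : G) (h : (1 : ℚ) ⊗ₜ[ℤ] g = 0) :
    ∃ k : ℕ, 0 < k ∧ k • g = 0 := by
  have hl : IsLocalizedModule (nonZeroDivisors ℤ) (TensorProduct.mk ℤ ℚ G 1) :=
    (isLocalizedModule_iff_isBaseChange (nonZeroDivisors ℤ) ℚ _).2 (TensorProduct.isBaseChange ℤ G ℚ)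
  obtain ⟨c, hc⟩ := (IsLocalizedModule.eq_zero_iff (nonZeroDivisors ℤ) (TensorProduct.mk ℤ ℚ G 1)).1 h
  have hc0 : (c : ℤ) ≠ 0 := nonZeroDivisors.ne_zero c.2
  refine ⟨(c : ℤ).natAbs, Int.natAbs_pos.2 hc0, ?_⟩
  have h2 : (c : ℤ) • g = 0 := hc
  rcases Int.natAbs_eq (c : ℤ) with h3 | h3
  · rw [h3] at h2
    rwa [natCast_zsmul] at h2
  · rw [h3, neg_smul, natCast_zsmul, neg_eq_zero] at h2
    exact h2

/-- Elements of the subgroup generated by a submonoid are differences. -/
theorem exists_sub_of_mem_closure {M : Type v} [AddCommGroup M] (F : AddSubmonoid M) {m : M}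
    (hm : m ∈ AddSubgroup.closure (F : Set M)) : ∃ f ∈ F, ∃ f' ∈ F, m + f' = f := by
  induction hm using AddSubgroup.closure_induction with
  | mem x hx => exact ⟨x, hx, 0, F.zero_mem, by simp⟩
  | zero => exact ⟨0, F.zero_mem, 0, F.zero_mem, by simp⟩
  | add x y _ _ hx hy =>
    obtain ⟨f, hf, f', hf', h1⟩ := hx
    obtain ⟨g, hg, g', hg', h2⟩ := hy
    exact ⟨f + g, F.add_mem hf hg, f' + g', F.add_mem hf' hg', by rw [← h1, ← h2]; abel⟩
  | neg x _ hx =>
    obtain ⟨f, hf, f', hf', h1⟩ := hx
    exact ⟨f', hf', f, hf, by rw [← h1]; abel⟩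

open TensorProduct in
/-- A finitely generated submonoid of a commutative group with a face admits a height function vanishing exactly on
the face. -/
theorem exists_height {M : Type v} [AddCommGroup M] {N F : AddSubmonoid M} (hN : N.FG) (hF : IsFace N F) :
    ∃ h : N →+ ℕ, ∀ n : N, h n = 0 ↔ (n : M) ∈ F := by
  classical
  obtain ⟨S, hS⟩ := hN
  have hSN : ∀ m ∈ S, m ∈ N := fun m hm => by rw [← hS]; exact AddSubmonoid.subset_closure hm
  let G := M ⧸ AddSubgroup.closure (F : Set M)
  let π : M →+ G := QuotientAddGroup.mk' _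
  let s := S.filter (· ∉ F)
  let x : M → ℚ ⊗[ℤ] G := fun m => (1 : ℚ) ⊗ₜ[ℤ] π m
  obtain ⟨l, hl⟩ := gordan s x (by
    intro y hy hsum i hi
    obtain ⟨D, hD, hn⟩ := exists_den s y hy
    choose! n hn using hn
    have h1 : (1 : ℚ) ⊗ₜ[ℤ] (∑ m ∈ s, n m • π m) = 0 := by
      have : ∑ m ∈ s, (D : ℚ) • (y m • x m) = 0 := by rw [← Finset.smul_sum, hsum, smul_zero]
      rw [← this, TensorProduct.tmul_sum]
      refine Finset.sum_congr rfl fun m hm => ?_
      rw [smul_smul, hn m hm, TensorProduct.tmul_smul, Nat.cast_smul_eq_nsmul]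
    obtain ⟨k, hk, hk2⟩ := exists_nsmul_eq_zero _ h1
    have h2 : π (k • ∑ m ∈ s, n m • m) = 0 := by
      rw [map_nsmul, map_sum]
      simpa only [map_nsmul] using hk2
    have h3 : k • ∑ m ∈ s, n m • m ∈ AddSubgroup.closure (F : Set M) :=
      (QuotientAddGroup.eq_zero_iff _).1 h2
    obtain ⟨f, hf, f', hf', h4⟩ := exists_sub_of_mem_closure F h3
    by_contra hyi
    have hni : n i ≠ 0 := by
      intro h0
      have := hn i hi
      rw [h0, Nat.cast_zero, mul_eq_zero] at this
      rcases this with h5 | h5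
      · exact hD.ne' (by exact_mod_cast h5)
      · exact hyi h5
    have hiS : i ∈ S := (Finset.mem_filter.1 hi).1
    have hiF : i ∉ F := (Finset.mem_filter.1 hi).2
    have hsN : ∀ m ∈ s, m ∈ N := fun m hm => hSN m (Finset.mem_filter.1 hm).1
    obtain ⟨k', rfl⟩ : ∃ k', k = k' + 1 := ⟨k - 1, by omega⟩
    obtain ⟨n', hn'⟩ : ∃ n', n i = n' + 1 := ⟨n i - 1, by omega⟩
    have h5 : i + (n' • i + ∑ m ∈ s.erase i, n m • m + k' • ∑ m ∈ s, n m • m + f') = f := by
      rw [← h4, succ_nsmul, ← Finset.add_sum_erase s _ hi, hn', succ_nsmul]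
      abel
    refine hiF (hF.mem_of_add_mem i (hSN i hiS) _ ?_ (h5 ▸ hf)).1
    refine N.add_mem (N.add_mem (N.add_mem (N.nsmul_mem (hSN i hiS) _) ?_) (N.nsmul_mem ?_ _)) (hF.le hf')
    · exact N.sum_mem fun m hm => N.nsmul_mem (hsN m (Finset.mem_of_mem_erase hm)) _
    · exact N.sum_mem fun m hm => N.nsmul_mem (hsN m hm) _)
  let g : M →+ ℚ := l.toAddMonoidHom.comp ((TensorProduct.mk ℤ ℚ G 1).toAddMonoidHom.comp π)
  have hg : ∀ m, g m = l (x m) := fun m => rfl
  have hgF : ∀ m ∈ F, g m = 0 := fun m hm => by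
    have : π m = 0 := (QuotientAddGroup.eq_zero_iff _).2 (AddSubgroup.subset_closure hm)
    rw [hg]
    change l (1 ⊗ₜ[ℤ] π m) = 0
    rw [this, TensorProduct.tmul_zero, map_zero]
  have hgS : ∀ m ∈ S, 0 ≤ g m ∧ (g m = 0 → m ∈ F) := by
    intro m hm
    by_cases hmF : m ∈ F
    · exact ⟨(hgF m hmF).ge, fun _ => hmF⟩
    · have := hl m (Finset.mem_filter.2 ⟨hm, hmF⟩)
      exact ⟨this.le, fun h0 => absurd (hg m ▸ h0) this.ne'⟩
  obtain ⟨D, hD, hn⟩ := exists_den S g (fun m hm => (hgS m hm).1)
  have hN' : ∀ m ∈ N, (∃ k : ℕ, (D : ℚ) * g m = k) ∧ 0 ≤ g m ∧ (g m = 0 → m ∈ F) := by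
    intro m hm
    rw [← hS] at hm
    induction hm using AddSubmonoid.closure_induction with
    | mem x hx => exact ⟨hn x hx, hgS x hx⟩
    | zero => exact ⟨⟨0, by simp⟩, by simp, fun _ => F.zero_mem⟩
    | add a b _ _ ha hb =>
      obtain ⟨⟨k, hk⟩, ha1, ha2⟩ := ha
      obtain ⟨⟨k', hk'⟩, hb1, hb2⟩ := hb
      refine ⟨⟨k + k', by rw [map_add, mul_add, hk, hk']; push_cast; rfl⟩, by rw [map_add]; positivity, fun h0 => ?_⟩
      rw [map_add] at h0
      exact F.add_mem (ha2 (by linarith)) (hb2 (by linarith))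
  choose! k hk using fun m hm => (hN' m hm).1
  have hD' : (D : ℚ) ≠ 0 := by exact_mod_cast hD.ne'
  refine ⟨{ toFun := fun n => k n, map_zero' := ?_, map_add' := ?_ }, fun n => ?_⟩
  · have := hk 0 N.zero_mem
    rw [map_zero, mul_zero] at this
    exact_mod_cast this.symm
  · intro a b
    have h1 := hk _ (N.add_mem a.2 b.2)
    rw [map_add, mul_add, hk _ a.2, hk _ b.2] at h1
    exact_mod_cast h1.symm
  · have h1 := hk _ n.2
    change k (n : M) = 0 ↔ _
    constructor
    · intro h0
      rw [h0, Nat.cast_zero, mul_eq_zero] at h1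
      exact (hN' _ n.2).2.2 (h1.resolve_left hD')
    · intro hF
      rw [hgF _ hF, mul_zero] at h1
      exact_mod_cast h1.symm

end K949.Height
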