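import Groth.Agent.Magnet.K949.Pts

/-!
# The homotopy on attractors attached to a height function

For `h : N →+ ℕ` and a function `c` on `T`: `K949.Homotopy.hty a h T x c` is the element `(b, t) ↦ x (b · c^h, t)` of `X^N(T)`.
-/

set_option autoImplicit false
universe u
open CategoryTheory MonoidalCategory CartesianMonoidalCategory MonObj AlgebraicGeometry Limits Opposite

namespace K949.Homotopy

open Magnet Magnet.MonAct K949.Pts

variable {S : Scheme.{u}} {M : Type} [AddCommMonoid M] {N F : AddSubmonoid M} (h : N →+ ℕ)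

/-- The character `n ↦ c ^ h n`. -/
def powChar {E : Type u} [CommRing E] (c : E) : Multiplicative N →* E where
  toFun n := c ^ h (Multiplicative.toAdd n)
  map_one' := by
    change c ^ h 0 = 1
    rw [map_zero, pow_zero]
  map_mul' a b := by
    change c ^ h (Multiplicative.toAdd a + Multiplicative.toAdd b) = _
    rw [map_add, pow_add]

@[simp] lemma powChar_apply {E : Type u} [CommRing E] (c : E) (n : Multiplicative N) :
    powChar h c n = c ^ h (Multiplicative.toAdd n) := rfl

/-- The point `c ^ h` of `A(N)`. -/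
noncomputable def wPt (T : Over S) (c : Γ(T.left, ⊤)) : T ⟶ AMonS S N := amEquiv T N (powChar h c)

lemma comp_wPt {T T' : Over S} (t : T' ⟶ T) (c : Γ(T.left, ⊤)) :
    t ≫ wPt h T c = wPt h T' (t.left.appTop c) := by
  rw [wPt, amEquiv_naturality]
  congr 1
  ext n
  exact map_pow t.left.appTop.hom c _

lemma wPt_one (T : Over S) : wPt h T 1 = 1 := by
  apply amChar_injective
  rw [wPt, amChar_amEquiv, amChar_one]
  ext n
  simp

variable (hF : IsFace N F) (hh : ∀ n : N, h n = 0 ↔ (n : M) ∈ F)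

include hh in
lemma mul_wPt_zero {W : Over S} (b : W ⟶ AMonS S N) :
    b * wPt h W 0 = (b ≫ AMonS.map S (AddSubmonoid.inclusion hF.le)) ≫ AMonS.faceMap S hF := by
  apply amChar_injective
  rw [amChar_mul, wPt, amChar_amEquiv, amChar_faceMap, amChar_map]
  refine MonoidHom.ext fun n => ?_
  by_cases hn : ((Multiplicative.toAdd n : ↥N) : M) ∈ F
  · have h0 := (hh (Multiplicative.toAdd n)).2 hn
    rw [MonoidHom.mul_apply, powChar_apply, h0, pow_zero, _root_.mul_one]
    exact (extZero_of_mem hF ((amChar b).comp (AddMonoidHom.toMultiplicative (AddSubmonoid.inclusion hF.le)))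
      (Multiplicative.toAdd n) hn).symm
  · have h0 : h (Multiplicative.toAdd n) ≠ 0 := fun h0 => hn ((hh _).1 h0)
    rw [MonoidHom.mul_apply, powChar_apply, zero_pow h0, mul_zero]
    exact (extZero_of_not_mem hF ((amChar b).comp (AddMonoidHom.toMultiplicative (AddSubmonoid.inclusion hF.le)))
      (Multiplicative.toAdd n) hn).symm

include hh in
lemma wPt_map {W : Over S} (c : Γ(W.left, ⊤)) :
    wPt h W c ≫ AMonS.map S (AddSubmonoid.inclusion hF.le) = 1 := by
  apply amChar_injective
  rw [amChar_map, wPt, amChar_amEquiv, amChar_one]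
  refine MonoidHom.ext fun n => ?_
  have h0 := (hh (AddSubmonoid.inclusion hF.le (Multiplicative.toAdd n))).2 (Multiplicative.toAdd n).2
  change c ^ h (AddSubmonoid.inclusion hF.le (Multiplicative.toAdd n)) = 1
  rw [h0, pow_zero]

include hF hh in
lemma faceMap_mul_wPt {W : Over S} (b : W ⟶ AMonS S F) (c : Γ(W.left, ⊤)) :
    (b ≫ AMonS.faceMap S hF) * wPt h W c = b ≫ AMonS.faceMap S hF := by
  apply amChar_injective
  rw [amChar_mul, wPt, amChar_amEquiv, amChar_faceMap]
  refine MonoidHom.ext fun n => ?_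
  rw [MonoidHom.mul_apply, powChar_apply]
  by_cases hn : ((Multiplicative.toAdd n : ↥N) : M) ∈ F
  · have h0 := (hh (Multiplicative.toAdd n)).2 hn
    rw [h0, pow_zero, _root_.mul_one]
  · rw [show extZero hF (amChar b) n = 0 from extZero_of_not_mem hF _ (Multiplicative.toAdd n) hn, zero_mul]

/-- `(b, t) ↦ (b · c(t)^h, t)` -/
noncomputable def del (T : Over S) (c : Γ(T.left, ⊤)) : AMonS S N ⊗ T ⟶ AMonS S N ⊗ T :=
  lift (fst _ _ * (snd _ _ ≫ wPt h T c)) (snd _ _)

@[reassoc]
lemma lift_del {T W : Over S} (c : Γ(T.left, ⊤)) (b : W ⟶ AMonS S N) (t : W ⟶ T) :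
    lift b t ≫ del h T c = lift (b * (t ≫ wPt h T c)) t := by
  rw [del, comp_lift, MonObj.comp_mul, lift_fst, lift_snd, lift_snd_assoc]

variable {X : Over S} (a : MonAct (AMonS S M) X)

lemma lift_subAct_mul {W : Over S} (g : W ⟶ AMonS S M) (b w : W ⟶ AMonS S N) :
    (lift g b ≫ (subAct S M N).act) * w = lift g (b * w) ≫ (subAct S M N).act := by
  rw [subAct, lift_restrict_act, lift_regular_act, lift_restrict_act, lift_regular_act, _root_.mul_assoc]

lemma isEquivariant_del (T : Over S) (c : Γ(T.left, ⊤)) (φ : AMonS S N ⊗ T ⟶ X)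
    (hφ : IsEquivariant ((subAct S M N).prod (MonAct.trivial (AMonS S M) T)) a φ) :
    IsEquivariant ((subAct S M N).prod (MonAct.trivial (AMonS S M) T)) a (del h T c ≫ φ) := by
  rw [mem_eqvHom_iff] at hφ ⊢
  intro T' g b t
  have e1 : lift b t ≫ del h T c ≫ φ = lift (b * (t ≫ wPt h T c)) t ≫ φ := lift_del_assoc h c b t φ
  have e2 : lift (lift g b ≫ (subAct S M N).act) t ≫ del h T c ≫ φ =
      lift ((lift g b ≫ (subAct S M N).act) * (t ≫ wPt h T c)) t ≫ φ := lift_del_assoc h c _ t φ
  have e3 := hφ T' g (b * (t ≫ wPt h T c)) t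
  rw [e1, e2, ← e3, lift_subAct_mul]

/-- The homotopy `(b, t) ↦ x (b · c(t)^h, t)`. -/
noncomputable def hty (T : Over S) (x : (attr a N).obj (op T)) (c : Γ(T.left, ⊤)) : (attr a N).obj (op T) :=
  ⟨del h T c ≫ x.1, isEquivariant_del h a T c x.1 x.2⟩

lemma hty_coe (T : Over S) (x : (attr a N).obj (op T)) (c : Γ(T.left, ⊤)) :
    (hty h a T x c).1 = del h T c ≫ x.1 := rfl

lemma hty_naturality {T T' : Over S} (t : T' ⟶ T) (x : (attr a N).obj (op T)) (c : Γ(T.left, ⊤)) :
    hty h a T' ((attr a N).map t.op x) (t.left.appTop c) = (attr a N).map t.op (hty h a T x c) := by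
  apply Subtype.ext
  rw [hty_coe, eqvHom_map_coe, eqvHom_map_coe, hty_coe]
  apply hom_ext_lift₂
  intro W b s
  rw [lift_del_assoc, Quiver.Hom.unop_op, lift_whiskerLeft_assoc, lift_whiskerLeft_assoc, lift_del_assoc,
    Category.assoc]
  have e : t ≫ wPt h T c = wPt h T' (t.left.appTop c) := comp_wPt h t c
  rw [← e]

lemma hty_one (T : Over S) (x : (attr a N).obj (op T)) : hty h a T x 1 = x := by
  apply Subtype.ext
  rw [hty_coe]
  apply hom_ext_lift₂
  intro W b s
  rw [lift_del_assoc, comp_wPt, map_one, wPt_one, _root_.mul_one]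

include hh in
lemma hty_zero (T : Over S) (x : (attr a N).obj (op T)) :
    hty h a T x 0 = (attrMap a hF.le).app (op T) ((attrFace a hF).app (op T) x) := by
  apply Subtype.ext
  rw [hty_coe]
  apply hom_ext_lift₂
  intro W b s
  change _ = lift b s ≫ (AMonS.map S (AddSubmonoid.inclusion hF.le) ▷ T) ≫ (AMonS.faceMap S hF ▷ T) ≫ x.1
  rw [lift_del_assoc, comp_wPt, map_zero, mul_wPt_zero h hF hh, lift_whiskerRight_assoc, lift_whiskerRight_assoc]

include hh in
lemma hty_attrMap (T : Over S) (y : (attr a F).obj (op T)) (c : Γ(T.left, ⊤)) :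
    hty h a T ((attrMap a hF.le).app (op T) y) c = (attrMap a hF.le).app (op T) y := by
  apply Subtype.ext
  rw [hty_coe]
  apply hom_ext_lift₂
  intro W b s
  change lift b s ≫ del h T c ≫ (AMonS.map S (AddSubmonoid.inclusion hF.le) ▷ T) ≫ y.1 =
    lift b s ≫ (AMonS.map S (AddSubmonoid.inclusion hF.le) ▷ T) ≫ y.1
  rw [lift_del_assoc, lift_whiskerRight_assoc, lift_whiskerRight_assoc, MonObj.mul_comp, comp_wPt,
    wPt_map h hF hh, _root_.mul_one]

include hh in
/-- The homotopy is over `X^F`. -/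
lemma attrFace_hty (T : Over S) (x : (attr a N).obj (op T)) (c : Γ(T.left, ⊤)) :
    (attrFace a hF).app (op T) (hty h a T x c) = (attrFace a hF).app (op T) x := by
  apply Subtype.ext
  apply hom_ext_lift₂
  intro W b s
  change lift b s ≫ (AMonS.faceMap S hF ▷ T) ≫ del h T c ≫ x.1 = lift b s ≫ (AMonS.faceMap S hF ▷ T) ≫ x.1
  rw [lift_whiskerRight_assoc, lift_whiskerRight_assoc, lift_del_assoc, comp_wPt, faceMap_mul_wPt h hF hh]

end K949.Homotopy
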