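import Groth.Agent.Magnet.K949.LimTensor
import Groth.Agent.AlgSp.K601.RelLimRep
import Groth.Prelude.Def_Magnet2

/-!
# `f^N` is locally of finite presentation if `f` is
-/

set_option autoImplicit false
universe u
open CategoryTheory MonoidalCategory CartesianMonoidalCategory MonObj AlgebraicGeometry Limits Opposite

namespace K949.Lfp

open Magnet Magnet.MonAct K949.LimTensor

/-- Criterion for local finite presentation of a morphism over `S`. -/
theorem lfp_of_factor {S : Scheme.{u}} {U V : Over S} (h : U ⟶ V)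
    (H : ∀ (J : Type u) [SmallCategory J] [IsCofiltered J] (D : J ⥤ Over S) (c : Cone D)
      (_ : IsLimit ((Over.forget S).mapCone c)) (_ : ∀ j, IsAffine (D.obj j).left) (j₀ : J) (x : c.pt ⟶ U)
      (y : D.obj j₀ ⟶ V), x ≫ h = c.π.app j₀ ≫ y → ∃ (j : J) (φ : j ⟶ j₀) (xj : D.obj j ⟶ U),
        c.π.app j ≫ xj = x ∧ xj ≫ h = D.map φ ≫ y) : LocallyOfFinitePresentation h.left := by
  refine Groth.Agent.S9208.result h.left ?_
  intro J _ _ _ D t c hc hD j₀ g hg
  let E : Jᵒᵖ ⥤ Over S :=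
    { obj := fun j => Over.mk (t.app j ≫ V.hom)
      map := fun {j k} f => Over.homMk (D.map f) (by
        have := t.naturality f
        change D.map f ≫ t.app k ≫ V.hom = t.app j ≫ V.hom
        rw [← Category.assoc, this]
        exact congrArg (· ≫ V.hom) (Category.comp_id _))
      map_id := fun j => Over.OverMorphism.ext (D.map_id j)
      map_comp := fun f g => Over.OverMorphism.ext (D.map_comp f g) }
  have hcomp : ∀ j : Jᵒᵖ, c.π.app j ≫ t.app j = c.π.app j₀ ≫ t.app j₀ := by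
    have h1 : ∀ {i j : Jᵒᵖ} (_ : i ⟶ j), c.π.app i ≫ t.app i = c.π.app j ≫ t.app j := fun {i j} φ => by
      have h2 : D.map φ ≫ t.app j = t.app i := (t.naturality φ).trans (Category.comp_id _)
      rw [← h2, ← Category.assoc, c.w]
    intro j
    rw [← h1 (IsCofiltered.minToLeft j j₀), h1 (IsCofiltered.minToRight j j₀)]
  let c' : Cone E :=
    { pt := Over.mk (c.π.app j₀ ≫ t.app j₀ ≫ V.hom)
      π :=
        { app := fun j => Over.homMk (c.π.app j) (by
            change c.π.app j ≫ t.app j ≫ V.hom = c.π.app j₀ ≫ t.app j₀ ≫ V.hom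
            rw [← Category.assoc, hcomp, Category.assoc])
          naturality := fun j k f => Over.OverMorphism.ext (c.π.naturality f) } }
  have hc' : IsLimit ((Over.forget S).mapCone c') := hc
  have hgU : g ≫ U.hom = c.π.app j₀ ≫ t.app j₀ ≫ V.hom := by
    rw [← Over.w h, ← Category.assoc, hg, Category.assoc]
  let g' : c'.pt ⟶ U := Over.homMk g hgU
  let y : E.obj j₀ ⟶ V := Over.homMk (t.app j₀)
  obtain ⟨j, φ, x, hx1, hx2⟩ := H Jᵒᵖ E c' hc' (fun j => hD j) j₀ g' y (Over.OverMorphism.ext hg)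
  refine ⟨j, x.left, ?_, ?_⟩
  · have h3 : x.left ≫ h.left = D.map φ ≫ t.app j₀ := congrArg (fun m => m.left) hx2
    rw [h3]
    exact (t.naturality φ).trans (Category.comp_id _)
  · exact congrArg (fun m => m.left) hx1

section Attr

variable {S : Scheme.{u}} {M : Type} [AddCommMonoid M] (N : AddSubmonoid M) {X Y : Over S}
  (aX : MonAct (AMonS S M) X) (aY : MonAct (AMonS S M) Y) (f : X ⟶ Y) (hf : IsEquivariant aX aY f)

theorem isAffine_tensor (M : Type) [AddCommMonoid M] (T : Over S) [IsAffine T.left] :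
    IsAffine (AMonS S M ⊗ T).left := by
  have := K949.Dominant.isAffineHom_snd (S := S) M T
  exact isAffine_of_isAffineHom (snd (AMonS S M) T).left

theorem exists_attr_factor [LocallyOfFinitePresentation f.left] {J : Type u} [SmallCategory J] [IsCofiltered J]
    (D : J ⥤ Over S) (c : Cone D) (hc : IsLimit ((Over.forget S).mapCone c)) (hD : ∀ j, IsAffine (D.obj j).left)
    (i : J) (x : (attr aX N).obj (op c.pt)) (y : (attr aY N).obj (op (D.obj i)))
    (h : (eqvHom.postcomp (subAct S M N) f hf).app _ x = (attr aY N).map (c.π.app i).op y) :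
    ∃ (j : J) (φ : j ⟶ i) (xj : (attr aX N).obj (op (D.obj j))), (attr aX N).map (c.π.app j).op xj = x ∧
      (eqvHom.postcomp (subAct S M N) f hf).app _ xj = (attr aY N).map (D.map φ).op y := by
  let D' := D ⋙ tensorLeft (AMonS S N)
  let c' : Cone D' := (tensorLeft (AMonS S N)).mapCone c
  have hc' : IsLimit ((Over.forget S).mapCone c') := isLimitForget c (AMonS S N) hc
  have hD' : ∀ j, IsAffine (D'.obj j).left := fun j => by
    have := hD j
    exact isAffine_tensor N (D.obj j)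
  let D'' := D' ⋙ tensorLeft (AMonS S M)
  let c'' : Cone D'' := (tensorLeft (AMonS S M)).mapCone c'
  have hc'' : IsLimit ((Over.forget S).mapCone c'') := isLimitForget c' (AMonS S M) hc'
  have hD'' : ∀ j, IsAffine (D''.obj j).left := fun j => by
    have := hD' j
    exact isAffine_tensor M (D'.obj j)
  obtain ⟨j, φ, g, hg1, hg2⟩ := K601.RelLimRep.exists_factor hc' hD' f (inferInstance : LocallyOfFinitePresentation f.left)
    (i := i) y.1 x.1 (congrArg Subtype.val h)
  change (AMonS S N ◁ c.π.app j) ≫ g = x.1 at hg1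
  change g ≫ f = (AMonS S N ◁ D.map φ) ≫ y.1 at hg2
  -- equivariance after enlarging
  let u₁ : AMonS S M ⊗ (AMonS S N ⊗ D.obj j) ⟶ X := ((subAct S M N).prod (trivial (AMonS S M) _)).act ≫ g
  let u₂ : AMonS S M ⊗ (AMonS S N ⊗ D.obj j) ⟶ X := (AMonS S M ◁ g) ≫ aX.act
  have hyj := ((attr aY N).map (D.map φ).op y).2
  have e1 : u₁ ≫ f = u₂ ≫ f := by
    change (_ ≫ g) ≫ f = (_ ≫ _) ≫ f
    rw [Category.assoc, Category.assoc, hg2, hf, ← MonoidalCategory.whiskerLeft_comp_assoc, hg2]
    exact hyj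
  have e2 : (AMonS S M ◁ (AMonS S N ◁ c.π.app j)) ≫ u₁ = (AMonS S M ◁ (AMonS S N ◁ c.π.app j)) ≫ u₂ := by
    change _ ≫ _ ≫ g = _ ≫ _ ≫ _
    rw [← prod_trivial_act_whiskerLeft_assoc, hg1, ← MonoidalCategory.whiskerLeft_comp_assoc, hg1]
    exact x.2
  obtain ⟨k, ψ, hk⟩ := K601.RelLimRep.exists_eq hc'' hD'' f
    (inferInstance : LocallyOfFiniteType f.left) (i := j) u₁ u₂ e1 e2
  change (AMonS S M ◁ (AMonS S N ◁ D.map ψ)) ≫ _ ≫ g = (AMonS S M ◁ (AMonS S N ◁ D.map ψ)) ≫ _ ≫ _ at hk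
  refine ⟨k, ψ ≫ φ, ⟨(AMonS S N ◁ D.map ψ) ≫ g, ?_⟩, Subtype.ext ?_, Subtype.ext ?_⟩
  · rw [← prod_trivial_act_whiskerLeft_assoc, ← MonoidalCategory.whiskerLeft_comp_assoc] at hk
    exact hk
  · change (AMonS S N ◁ c.π.app k) ≫ (AMonS S N ◁ D.map ψ) ≫ g = x.1
    rw [← MonoidalCategory.whiskerLeft_comp_assoc, c.w, hg1]
  · change ((AMonS S N ◁ D.map ψ) ≫ g) ≫ f = (AMonS S N ◁ D.map (ψ ≫ φ)) ≫ y.1
    rw [Category.assoc, hg2, D.map_comp, MonoidalCategory.whiskerLeft_comp, Category.assoc]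

/-- If `f` is locally of finite presentation then so is the morphism of representing objects. -/
theorem lfp_of_represents [LocallyOfFinitePresentation f.left] {ZX ZY : Over S}
    (eX : (attr aX N).RepresentableBy ZX) (eY : (attr aY N).RepresentableBy ZY)
    (j : ZX ⟶ ZY) (hj : ∀ (T : Over S) (z : T ⟶ ZX),
      eY.homEquiv (z ≫ j) = (eqvHom.postcomp (subAct S M N) f hf).app (op T) (eX.homEquiv z)) :
    LocallyOfFinitePresentation j.left := by
  refine lfp_of_factor j ?_
  intro J _ _ D c hc hD i x y hxy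
  obtain ⟨k, φ, xk, h1, h2⟩ := exists_attr_factor N aX aY f hf D c hc hD i (eX.homEquiv x) (eY.homEquiv y) (by
    rw [← hj, hxy, eY.homEquiv_comp])
  refine ⟨k, φ, eX.homEquiv.symm xk, ?_, ?_⟩
  · apply eX.homEquiv.injective
    rw [eX.homEquiv_comp, Equiv.apply_symm_apply, h1]
  · apply eY.homEquiv.injective
    rw [hj, Equiv.apply_symm_apply, h2, eY.homEquiv_comp]

end Attr

end K949.Lfp
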