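import Groth.Agent.S9208
import Groth.Agent.Magnet.K949.Dominant

/-!
# Cofiltered limits and `G ⊗ -` over `S`; criterion for local finite presentation over `S`
-/

set_option autoImplicit false
universe u
open CategoryTheory MonoidalCategory CartesianMonoidalCategory MonObj AlgebraicGeometry Limits Opposite

namespace K949.LimTensor

variable {S : Scheme.{u}} {J : Type u} [SmallCategory J] [IsCofiltered J] {D : J ⥤ Over S} (c : Cone D)

/-- the cone of second components -/
noncomputable def sndCone (G : Over S) (s : Cone (D ⋙ tensorLeft G)) : Cone D where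
  pt := s.pt
  π :=
    { app := fun j => s.π.app j ≫ snd _ _
      naturality := fun i j φ => by
        have h := s.w φ
        change 𝟙 _ ≫ s.π.app j ≫ snd _ _ = (s.π.app i ≫ snd _ _) ≫ D.map φ
        rw [Category.id_comp, ← h, Category.assoc, Category.assoc]
        congr 1
        exact whiskerLeft_snd G (D.map φ) }

theorem fst_eq (G : Over S) (s : Cone (D ⋙ tensorLeft G)) (i j : J) :
    s.π.app i ≫ fst G (D.obj i) = s.π.app j ≫ fst G (D.obj j) := by
  have key : ∀ {i j : J} (φ : i ⟶ j), s.π.app i ≫ fst G (D.obj i) = s.π.app j ≫ fst G (D.obj j) := by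
    intro i j φ
    rw [← s.w φ, Category.assoc]
    congr 1
    exact (whiskerLeft_fst G (D.map φ)).symm
  rw [← key (IsCofiltered.minToLeft i j), ← key (IsCofiltered.minToRight i j)]

/-- `G ⊗ -` preserves cofiltered limits. -/
noncomputable def isLimitTensor (G : Over S) (hc : IsLimit c) : IsLimit ((tensorLeft G).mapCone c) where
  lift s := lift (s.π.app (IsCofiltered.nonempty (C := J)).some ≫ fst _ _) (hc.lift (sndCone G s))
  fac s j := by
    apply CartesianMonoidalCategory.hom_ext
    · rw [Category.assoc]
      have h : (((tensorLeft G).mapCone c).π.app j) ≫ fst G (D.obj j) = fst G c.pt := whiskerLeft_fst G (c.π.app j)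
      refine (congrArg (fun z => _ ≫ z) h).trans ?_
      refine (lift_fst _ _).trans ?_
      exact fst_eq G s _ _
    · rw [Category.assoc]
      have h : (((tensorLeft G).mapCone c).π.app j) ≫ snd G (D.obj j) = snd G c.pt ≫ c.π.app j :=
        whiskerLeft_snd G (c.π.app j)
      refine (congrArg (fun z => _ ≫ z) h).trans ?_
      refine (lift_snd_assoc _ _ _).trans ?_
      exact hc.fac (sndCone G s) j
  uniq s m hm := by
    apply CartesianMonoidalCategory.hom_ext
    · rw [lift_fst, ← hm, Category.assoc]
      congr 1
      exact (whiskerLeft_fst G (c.π.app _)).symm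
    · rw [lift_snd]
      refine hc.hom_ext fun j => ?_
      refine Eq.trans ?_ (hc.fac (sndCone G s) j).symm
      change (m ≫ snd _ _) ≫ c.π.app j = s.π.app j ≫ snd _ _
      rw [← hm, Category.assoc, Category.assoc]
      congr 1
      exact (whiskerLeft_snd G (c.π.app j)).symm

noncomputable def isLimitForget (G : Over S) (hc : IsLimit ((Over.forget S).mapCone c)) :
    IsLimit ((Over.forget S).mapCone ((tensorLeft G).mapCone c)) := by
  have : IsConnected J := IsCofiltered.isConnected J
  have hc' : IsLimit c := isLimitOfReflects (Over.forget S) hc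
  exact isLimitOfPreserves (Over.forget S) (isLimitTensor c G hc')

end K949.LimTensor
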