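import Groth.Agent.Magnet.K949.Homotopy
import Groth.Agent.Magnet.K949.Chart
import Mathlib.AlgebraicGeometry.ResidueField
import Mathlib.AlgebraicGeometry.Properties
import Mathlib.RingTheory.Polynomial.Basic
import Mathlib.AlgebraicGeometry.PullbackCarrier

/-!
# Paths in the fibres of `X^N ⟶ X^F`

`K949.Path.exists_path`: for a field-valued point `x₀` of a scheme representing `X^N` there is a family over `Spec κ[t]` in the fibre
of `X^N ⟶ X^F` joining `x₀` (`t = 1`) to its limit (`t = 0`).
-/

set_option autoImplicit false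
universe u
open CategoryTheory MonoidalCategory CartesianMonoidalCategory MonObj AlgebraicGeometry Limits Opposite

namespace K949.Path

open Magnet Magnet.MonAct K949.Pts K949.Homotopy K949.Chart Polynomial

variable {S : Scheme.{u}} {M : Type} [AddCommMonoid M] {N F : AddSubmonoid M} (h : N →+ ℕ)
  (hF : IsFace N F) (hh : ∀ n : N, h n = 0 ↔ (n : M) ∈ F)
  {X : Over S} (a : MonAct (AMonS S M) X) {ZN Z0 : Over S}
  (eN : (attr a N).RepresentableBy ZN) (e0 : (attr a F).RepresentableBy Z0) (j : ZN ⟶ Z0)
  (hj : ∀ (T : Over S) (z : T ⟶ ZN), e0.homEquiv (z ≫ j) = (attrFace a hF).app (op T) (eN.homEquiv z))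

/-- The section `X^F ⟶ X^N` on representing objects. -/
noncomputable def sec : Z0 ⟶ ZN := eN.homEquiv.symm ((attrMap a hF.le).app (op Z0) (e0.homEquiv (𝟙 Z0)))

theorem homEquiv_sec {T : Over S} (z : T ⟶ Z0) :
    eN.homEquiv (z ≫ sec hF a eN e0) = (attrMap a hF.le).app (op T) (e0.homEquiv z) := by
  rw [eN.homEquiv_comp, sec, Equiv.apply_symm_apply, ← NatTrans.naturality_apply, ← e0.homEquiv_comp, Category.comp_id]

include hj in
theorem sec_comp : sec hF a eN e0 ≫ j = 𝟙 Z0 := by
  apply e0.homEquiv.injective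
  rw [hj, sec, Equiv.apply_symm_apply]
  have := congr(($(attrMap_comp_attrFace a hF)).app (op Z0) (e0.homEquiv (𝟙 Z0)))
  exact this

/-- The homotopy on points. -/
noncomputable def hpt {T : Over S} (z : T ⟶ ZN) (c : Γ(T.left, ⊤)) : T ⟶ ZN :=
  eN.homEquiv.symm (hty h a T (eN.homEquiv z) c)

theorem comp_hpt {T T' : Over S} (t : T' ⟶ T) (z : T ⟶ ZN) (c : Γ(T.left, ⊤)) :
    t ≫ hpt h a eN z c = hpt h a eN (t ≫ z) (t.left.appTop c) := by
  apply eN.homEquiv.injective
  rw [eN.homEquiv_comp, hpt, hpt, Equiv.apply_symm_apply, Equiv.apply_symm_apply, eN.homEquiv_comp, hty_naturality]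

theorem hpt_one {T : Over S} (z : T ⟶ ZN) : hpt h a eN z 1 = z := by
  apply eN.homEquiv.injective
  rw [hpt, Equiv.apply_symm_apply, hty_one]

include hh hj in
theorem hpt_zero {T : Over S} (z : T ⟶ ZN) : hpt h a eN z 0 = z ≫ j ≫ sec hF a eN e0 := by
  apply eN.homEquiv.injective
  rw [hpt, Equiv.apply_symm_apply, hty_zero h hF hh, ← Category.assoc, homEquiv_sec, hj]

include hh hj in
theorem hpt_comp {T : Over S} (z : T ⟶ ZN) (c : Γ(T.left, ⊤)) : hpt h a eN z c ≫ j = z ≫ j := by
  apply e0.homEquiv.injective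
  rw [hj, hpt, Equiv.apply_symm_apply, attrFace_hty h hF hh, hj]

include hh hj in
/-- A path joining a field-valued point to its limit. -/
theorem exists_path (κ : Type u) [Field κ] (x₀ : Spec (CommRingCat.of κ) ⟶ ZN.left) :
    ∃ H : Spec (CommRingCat.of κ[X]) ⟶ ZN.left,
      Spec.map (CommRingCat.ofHom (Polynomial.evalRingHom (1 : κ))) ≫ H = x₀ ∧
      Spec.map (CommRingCat.ofHom (Polynomial.evalRingHom (0 : κ))) ≫ H = x₀ ≫ j.left ≫ (sec hF a eN e0).left ∧
      H ≫ j.left = Spec.map (CommRingCat.ofHom (Polynomial.C : κ →+* κ[X])) ≫ x₀ ≫ j.left := by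
  let T₀ : Over S := Over.mk (x₀ ≫ ZN.hom)
  let z₀ : T₀ ⟶ ZN := Over.homMk x₀ rfl
  let T : Over S := Over.mk (Spec.map (CommRingCat.ofHom (Polynomial.C : κ →+* κ[X])) ≫ x₀ ≫ ZN.hom)
  let q : T ⟶ T₀ := Over.homMk (Spec.map (CommRingCat.ofHom (Polynomial.C : κ →+* κ[X]))) rfl
  let c : Γ(T.left, ⊤) := toRing (B := κ[X]) (𝟙 (Spec (CommRingCat.of κ[X]))) (Polynomial.X)
  have hs : ∀ r : κ, Spec.map (CommRingCat.ofHom (Polynomial.evalRingHom r)) ≫
      Spec.map (CommRingCat.ofHom (Polynomial.C : κ →+* κ[X])) = 𝟙 _ := by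
    intro r
    rw [← Spec.map_comp, ← CommRingCat.ofHom_comp]
    have : (Polynomial.evalRingHom r).comp (Polynomial.C : κ →+* κ[X]) = RingHom.id κ := by
      ext; simp
    rw [this]
    exact Spec.map_id _
  let s : κ → (T₀ ⟶ T) := fun r => Over.homMk (Spec.map (CommRingCat.ofHom (Polynomial.evalRingHom r))) (by
    change _ ≫ _ ≫ x₀ ≫ ZN.hom = x₀ ≫ ZN.hom
    rw [reassoc_of% hs r])
  have hsq : ∀ r, s r ≫ q = 𝟙 T₀ := by
    intro r
    ext1
    exact hs r
  have hc : ∀ r, (s r).left.appTop c = toRing (B := κ) (𝟙 (Spec (CommRingCat.of κ))) r := by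
    intro r
    have h1 := toRing_comp (B := κ[X]) (Spec.map (CommRingCat.ofHom (Polynomial.evalRingHom r)))
      (𝟙 (Spec (CommRingCat.of κ[X])))
    rw [Category.comp_id] at h1
    have h2 := toRing_SpecMap (B := κ) (𝟙 (Spec (CommRingCat.of κ))) (Polynomial.evalRingHom r)
    rw [Category.id_comp] at h2
    have h3 := congr($(h1.symm.trans h2) (Polynomial.X : κ[X]))
    refine h3.trans ?_
    simp
  refine ⟨(hpt h a eN (q ≫ z₀) c).left, ?_, ?_, ?_⟩
  · have h1 : s 1 ≫ hpt h a eN (q ≫ z₀) c = z₀ := by
      rw [comp_hpt, hc, map_one, hpt_one, reassoc_of% (hsq 1)]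
    exact congr(($h1).left)
  · have h1 : s 0 ≫ hpt h a eN (q ≫ z₀) c = z₀ ≫ j ≫ sec hF a eN e0 := by
      rw [comp_hpt, hc, map_zero, hpt_zero h hF hh a eN e0 j hj, reassoc_of% (hsq 0)]
    exact congr(($h1).left)
  · have h1 : hpt h a eN (q ≫ z₀) c ≫ j = q ≫ z₀ ≫ j := by
      rw [hpt_comp h hF hh a eN e0 j hj, Category.assoc]
    exact congr(($h1).left)

theorem preconn_range {κ : Type u} [Field κ] {W : Scheme.{u}} (H : Spec (CommRingCat.of κ[X]) ⟶ W) :
    _root_.IsPreconnected (Set.range H) := by
  have : PreconnectedSpace (Spec (CommRingCat.of κ[X])) :=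
    inferInstanceAs (PreconnectedSpace (PrimeSpectrum κ[X]))
  exact _root_.isPreconnected_range H.continuous

theorem mem_range_of_comp {κ : Type u} [Field κ] {W : Scheme.{u}} (H : Spec (CommRingCat.of κ[X]) ⟶ W) (r : κ)
    {x : Spec (CommRingCat.of κ) ⟶ W}
    (hx : Spec.map (CommRingCat.ofHom (Polynomial.evalRingHom r)) ≫ H = x) (y : Spec (CommRingCat.of κ)) :
    x y ∈ Set.range H := by
  rw [← hx]
  exact ⟨_, rfl⟩

include hh hj in
theorem sec_mem_connectedComponent (p : ZN.left) :
    (sec hF a eN e0).left (j.left p) ∈ connectedComponent p := by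
  let κ : Type u := ZN.left.residueField p
  let x₀ : Spec (CommRingCat.of κ) ⟶ ZN.left := ZN.left.fromSpecResidueField p
  obtain ⟨H, h1, h0, -⟩ := exists_path h hF hh a eN e0 j hj κ x₀
  let y : Spec (CommRingCat.of κ) := IsLocalRing.closedPoint κ
  have hy : x₀ y = p := ZN.left.fromSpecResidueField_apply p _
  have m1 := mem_range_of_comp H 1 h1 y
  have m0 := mem_range_of_comp H 0 h0 y
  rw [hy] at m1
  have hc := (preconn_range H).subset_connectedComponent m1
  have := hc m0
  rw [← hy]
  rw [hy]
  have e : (x₀ ≫ j.left ≫ (sec hF a eN e0).left) y = (sec hF a eN e0).left (j.left p) := by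
    rw [Scheme.Hom.comp_apply, Scheme.Hom.comp_apply, hy]
  rwa [e] at this

include hh hj in
theorem bijective_connectedComponentsMap :
    Function.Bijective (Continuous.connectedComponentsMap (Scheme.Hom.continuous j.left)) := by
  have hsj : ∀ z : Z0.left, j.left ((sec hF a eN e0).left z) = z := by
    intro z
    have := congr(($(sec_comp hF a eN e0 j hj)).left z)
    exact this
  constructor
  · intro c c' hcc
    obtain ⟨p, rfl⟩ := ConnectedComponents.surjective_coe c
    obtain ⟨q, rfl⟩ := ConnectedComponents.surjective_coe c'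
    have h1 : (ConnectedComponents.mk (j.left p)) = ConnectedComponents.mk (j.left q) := hcc
    rw [ConnectedComponents.coe_eq_coe] at h1
    have hp := sec_mem_connectedComponent h hF hh a eN e0 j hj p
    have hq := sec_mem_connectedComponent h hF hh a eN e0 j hj q
    have h2 : (sec hF a eN e0).left (j.left q) ∈ connectedComponent ((sec hF a eN e0).left (j.left p)) := by
      have h3 := (isPreconnected_connectedComponent (x := j.left p)).image (sec hF a eN e0).left
        (sec hF a eN e0).left.continuous.continuousOn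
      refine h3.subset_connectedComponent ⟨_, mem_connectedComponent, rfl⟩ ⟨_, ?_, rfl⟩
      rw [h1]
      exact mem_connectedComponent
    change (ConnectedComponents.mk p) = ConnectedComponents.mk q
    rw [ConnectedComponents.coe_eq_coe]
    rw [connectedComponent_eq hp, connectedComponent_eq h2, ← connectedComponent_eq hq]
  · intro c
    obtain ⟨z, rfl⟩ := ConnectedComponents.surjective_coe c
    refine ⟨ConnectedComponents.mk ((sec hF a eN e0).left z), ?_⟩
    change ConnectedComponents.mk (j.left ((sec hF a eN e0).left z)) = _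
    rw [hsj]

include hh hj in
theorem connectedSpace_fiber (K : Type u) [Field K] (k : Spec (CommRingCat.of K) ⟶ Z0.left) :
    ConnectedSpace ↥(Limits.pullback j.left k) := by
  let σ : Spec (CommRingCat.of K) ⟶ Limits.pullback j.left k :=
    pullback.lift (k ≫ (sec hF a eN e0).left) (𝟙 _) (by
      rw [Category.assoc, Category.id_comp]
      have := congr(k ≫ ($(sec_comp hF a eN e0 j hj)).left)
      rw [Over.comp_left] at this
      rw [this]
      exact Category.comp_id _)
  let o : Spec (CommRingCat.of K) := IsLocalRing.closedPoint K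
  have hsub : Subsingleton (Spec (CommRingCat.of K)) := inferInstanceAs (Subsingleton (PrimeSpectrum K))
  have key : ∀ p : ↥(Limits.pullback j.left k), σ o ∈ connectedComponent p := by
    intro p
    let κ : Type u := (Limits.pullback j.left k).residueField p
    let i₀ : Spec (CommRingCat.of κ) ⟶ Limits.pullback j.left k := (Limits.pullback j.left k).fromSpecResidueField p
    obtain ⟨H, h1, h0, h2⟩ := exists_path h hF hh a eN e0 j hj κ (i₀ ≫ pullback.fst _ _)
    let H' : Spec (CommRingCat.of κ[X]) ⟶ Limits.pullback j.left k :=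
      pullback.lift H (Spec.map (CommRingCat.ofHom (Polynomial.C : κ →+* κ[X])) ≫ i₀ ≫ pullback.snd _ _) (by
        rw [h2, Category.assoc, Category.assoc, Category.assoc, pullback.condition])
    have hs : ∀ r : κ, Spec.map (CommRingCat.ofHom (Polynomial.evalRingHom r)) ≫
        Spec.map (CommRingCat.ofHom (Polynomial.C : κ →+* κ[X])) = 𝟙 _ := by
      intro r
      rw [← Spec.map_comp, ← CommRingCat.ofHom_comp]
      have : (Polynomial.evalRingHom r).comp (Polynomial.C : κ →+* κ[X]) = RingHom.id κ := by
        ext; simp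
      rw [this]
      exact Spec.map_id _
    have e1 : Spec.map (CommRingCat.ofHom (Polynomial.evalRingHom (1 : κ))) ≫ H' = i₀ := by
      apply pullback.hom_ext
      · rw [Category.assoc, pullback.lift_fst, h1]
      · rw [Category.assoc, pullback.lift_snd, reassoc_of% (hs 1)]
    have e0' : Spec.map (CommRingCat.ofHom (Polynomial.evalRingHom (0 : κ))) ≫ H' = i₀ ≫ pullback.snd _ _ ≫ σ := by
      apply pullback.hom_ext
      · rw [Category.assoc, pullback.lift_fst, h0, Category.assoc, Category.assoc, Category.assoc, pullback.lift_fst,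
          pullback.condition_assoc]
      · rw [Category.assoc, pullback.lift_snd, reassoc_of% (hs 0), Category.assoc, Category.assoc, pullback.lift_snd,
          Category.comp_id]
    let y : Spec (CommRingCat.of κ) := IsLocalRing.closedPoint κ
    have hy : i₀ y = p := (Limits.pullback j.left k).fromSpecResidueField_apply p _
    have m1 := mem_range_of_comp H' 1 e1 y
    have m0 := mem_range_of_comp H' 0 e0' y
    rw [hy] at m1
    have hc := (preconn_range H').subset_connectedComponent m1 m0
    have e : (i₀ ≫ pullback.snd _ _ ≫ σ) y = σ o := by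
      rw [Scheme.Hom.comp_apply, Scheme.Hom.comp_apply]
      congr 1
      exact Subsingleton.elim _ _
    rwa [e] at hc
  have hp : PreconnectedSpace ↥(Limits.pullback j.left k) := by
    rw [preconnectedSpace_iff_connectedComponent]
    intro p
    rw [← Set.top_eq_univ, eq_top_iff]
    intro q _
    rw [connectedComponent_eq (key p), ← connectedComponent_eq (key q)]
    exact mem_connectedComponent
  have hne : Nonempty ↥(Limits.pullback j.left k) := ⟨σ o⟩
  exact { toPreconnectedSpace := hp, toNonempty := hne }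

end K949.Path
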