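import Groth.Prelude.Def_Magnet4

/-!
# Points of the diagonalizable monoid schemes `A(M)_S`

`K949.Pts.amEquiv T M : (Multiplicative M →* Γ(T.left, ⊤)) ≃* (T ⟶ AMonS S M)` for `T : Over S`, natural in `T`
(`amEquiv_naturality`, `amChar_comp`), compatible with `AMonS.map` (`amChar_map`), `AMonS.faceMap`
(`amChar_faceMap_of_mem`, `amChar_faceMap_of_not_mem`), products (`amChar_mul`) and the unit (`amChar_one`).
-/

set_option autoImplicit false
universe u
open CategoryTheory MonoidalCategory CartesianMonoidalCategory MonObj AlgebraicGeometry Limits Opposite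

namespace K949.Pts

section bc
variable {S S' : Scheme.{u}} (f : S' ⟶ S) (T : Over S') (G : Over S) [MonObj G]

/-- points of the base change -/
noncomputable def bcEquiv : ((Over.map f).obj T ⟶ G) ≃* (T ⟶ Red.bc f G) where
  toEquiv := (Over.mapPullbackAdj f).homEquiv T G
  map_mul' g h := by
    simp only [Equiv.toFun_as_coe, Adjunction.homEquiv_unit]
    rw [← MonObj.comp_mul]
    congr 1
    exact (Over.pullback f).map_mul g h

lemma bcEquiv_apply (g : (Over.map f).obj T ⟶ G) :
    bcEquiv f T G g = (Over.mapPullbackAdj f).unit.app T ≫ (Over.pullback f).map g := by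
  simp [bcEquiv, Adjunction.homEquiv_unit]

@[reassoc]
lemma bcEquiv_fst (g : (Over.map f).obj T ⟶ G) :
    (bcEquiv f T G g).left ≫ pullback.fst G.hom f = g.left := by
  rw [bcEquiv_apply]
  simp only [Over.comp_left, Category.assoc, Over.pullback_map_left, Over.mapPullbackAdj_unit_app]
  erw [pullback.lift_fst, pullback.lift_fst_assoc]
  simp

end bc

attribute [local instance] ULift.algebra'

lemma uliftInt_ringHom_ext {A : Type u} [CommRing A] (f g : ULift.{u} ℤ →+* A) : f = g := by
  have : f.comp (ULift.ringEquiv.symm : ℤ ≃+* ULift.{u} ℤ).toRingHom =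
    g.comp (ULift.ringEquiv.symm : ℤ ≃+* ULift.{u} ℤ).toRingHom := RingHom.ext_int _ _
  ext x
  exact congr($this x.down)

lemma monAlg_ringHom_ext {E : Type u} [CommRing E] {Γ : Type} [CommMonoid Γ]
    {f g : MonoidAlgebra (ULift.{u} ℤ) Γ →+* E}
    (h : ∀ m, f (MonoidAlgebra.single m 1) = g (MonoidAlgebra.single m 1)) : f = g := by
  apply MonoidAlgebra.ringHom_ext
  · intro r
    exact congr($(uliftInt_ringHom_ext (f.comp MonoidAlgebra.singleOneRingHom)
      (g.comp MonoidAlgebra.singleOneRingHom)) r)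
  · exact h

/-- The ring hom `ℤ[M] → E` attached to a character. -/
noncomputable def charHom {E : Type u} [CommRing E] {M : Type} [AddCommMonoid M] (χ : Multiplicative M →* E) :
    MonoidAlgebra (ULift.{u} ℤ) (Multiplicative M) →+* E :=
  (MonoidAlgebra.lift (ULift.{u} ℤ) E (Multiplicative M) χ).toRingHom

@[simp]
lemma charHom_single {E : Type u} [CommRing E] {M : Type} [AddCommMonoid M] (χ : Multiplicative M →* E)
    (m : Multiplicative M) : charHom χ (MonoidAlgebra.single m 1) = χ m := by
  simp [charHom]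

lemma comp_charHom {E E' : Type u} [CommRing E] [CommRing E'] {M : Type} [AddCommMonoid M]
    (χ : Multiplicative M →* E) (φ : E →+* E') :
    φ.comp (charHom χ) = charHom ((φ : E →* E').comp χ) :=
  monAlg_ringHom_ext fun m => by simp

/-- the character attached to a ring hom -/
noncomputable def charOf {E : Type u} [CommRing E] {M : Type} [AddCommMonoid M]
    (f : MonoidAlgebra (ULift.{u} ℤ) (Multiplicative M) →+* E) : Multiplicative M →* E :=
  (f.toMonoidHom).comp (MonoidAlgebra.of _ _)

@[simp]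
lemma charOf_apply {E : Type u} [CommRing E] {M : Type} [AddCommMonoid M]
    (f : MonoidAlgebra (ULift.{u} ℤ) (Multiplicative M) →+* E) (m : Multiplicative M) :
    charOf f m = f (MonoidAlgebra.single m 1) := rfl

lemma charHom_charOf {E : Type u} [CommRing E] {M : Type} [AddCommMonoid M]
    (f : MonoidAlgebra (ULift.{u} ℤ) (Multiplicative M) →+* E) :
    charHom (charOf f) = f :=
  monAlg_ringHom_ext fun m => by simp

lemma charOf_charHom {E : Type u} [CommRing E] {M : Type} [AddCommMonoid M]
    (χ : Multiplicative M →* E) :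
    charOf (charHom χ) = χ := by
  ext m; simp

section

variable {S : Scheme.{u}}

/-- A scheme over `S` seen over `Spec ℤ`. -/
noncomputable abbrev toZ (T : Over S) : Over (Spec (CommRingCat.of (ULift.{u} ℤ))) :=
  (Over.map (Limits.IsTerminal.from specULiftZIsTerminal S)).obj T

lemma toZ_isOver {T : Over S} {A : Type u} [CommRing A] (g : T.left ⟶ Spec (.of A)) :
   g ≫ (Spec (.of A) ↘ Spec (.of (ULift.{u} ℤ))) = (toZ T).hom :=
  specULiftZIsTerminal.hom_ext _ _

/-- point of `A(M)` over `ℤ` given by a character -/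
noncomputable def zPt (T : Over S) (M : Type) [AddCommMonoid M] (χ : Multiplicative M →* Γ(T.left, ⊤)) :
    toZ T ⟶ Magnet.AMon (ULift.{u} ℤ) M :=
  (Over.homMk (V := (Spec (.of Γ(T.left, ⊤))).asOver (Spec (.of (ULift.{u} ℤ)))) T.left.toSpecΓ
    (toZ_isOver _)) ≫ Spec.mapMulEquiv (MonoidAlgebra.liftMulEquiv _ _ _ χ)

lemma zPt_mul (T : Over S) (M : Type) [AddCommMonoid M] (χ χ' : Multiplicative M →* Γ(T.left, ⊤)) :
    zPt T M (χ * χ') = zPt T M χ * zPt T M χ' := by
  rw [zPt, zPt, zPt, map_mul, map_mul, comp_mul]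

lemma zPt_left (T : Over S) (M : Type) [AddCommMonoid M] (χ : Multiplicative M →* Γ(T.left, ⊤)) :
    (zPt T M χ).left = T.left.toSpecΓ ≫ Spec.map (CommRingCat.ofHom (charHom χ)) := rfl

lemma zPt_bijective (T : Over S) (M : Type) [AddCommMonoid M] : Function.Bijective (zPt T M) := by
  constructor
  · intro χ χ' h
    have h2 := congr($(h).left)
    rw [zPt_left, zPt_left] at h2
    have h3 := (ΓSpec.adjunction.homEquiv T.left (.op (.of (MonoidAlgebra (ULift.{u} ℤ) (Multiplicative M))))).injective
       (a₁ := (CommRingCat.ofHom (charHom χ)).op) (a₂ := (CommRingCat.ofHom (charHom χ')).op) h2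
    rw [← charOf_charHom χ, ← charOf_charHom χ']
    have h4 := Quiver.Hom.op_inj h3
    congr 1
    exact congr(CommRingCat.Hom.hom $h4)
  · intro g
    obtain ⟨f, hf⟩ := (ΓSpec.adjunction.homEquiv T.left (.op (.of (MonoidAlgebra (ULift.{u} ℤ) (Multiplicative M))))).surjective g.left
    let φ : MonoidAlgebra (ULift.{u} ℤ) (Multiplicative M) →+* Γ(T.left, ⊤) := f.unop.hom
    refine ⟨charOf φ, ?_⟩
    ext1
    rw [zPt_left, charHom_charOf φ, ← hf]
    rfl

/-- points of `A(M)` over ℤ with values in `T` -/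
noncomputable def zEquiv (T : Over S) (M : Type) [AddCommMonoid M] :
    (Multiplicative M →* Γ(T.left, ⊤)) ≃* (toZ T ⟶ Magnet.AMon (ULift.{u} ℤ) M) where
  toEquiv := Equiv.ofBijective _ (zPt_bijective T M)
  map_mul' := zPt_mul T M

/-- The point of `A(M)_S` attached to a character. -/
noncomputable def amEquiv (T : Over S) (M : Type) [AddCommMonoid M] :
    (Multiplicative M →* Γ(T.left, ⊤)) ≃* (T ⟶ Magnet.AMonS S M) :=
  (zEquiv T M).trans (bcEquiv (Limits.IsTerminal.from specULiftZIsTerminal S) T (Magnet.AMon (ULift.{u} ℤ) M))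

/-- the underlying morphism to `Spec ℤ[M]` of a point of `A(M)_S`. -/
noncomputable def amFst {T : Over S} {M : Type} [AddCommMonoid M] (x : T ⟶ Magnet.AMonS S M) :
    T.left ⟶ Spec (CommRingCat.of (MonoidAlgebra (ULift.{u} ℤ) (Multiplicative M))) :=
  x.left ≫ pullback.fst _ _

lemma amFst_amEquiv (T : Over S) (M : Type) [AddCommMonoid M] (χ : Multiplicative M →* Γ(T.left, ⊤)) :
    amFst (amEquiv T M χ) = T.left.toSpecΓ ≫ Spec.map (CommRingCat.ofHom (charHom χ)) :=
  bcEquiv_fst _ _ _ _

lemma amFst_comp {T T' : Over S} (h : T' ⟶ T) {M : Type} [AddCommMonoid M] (x : T ⟶ Magnet.AMonS S M) :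
    amFst (h ≫ x) = h.left ≫ amFst x :=
  Category.assoc _ _ _

lemma am_ext {T : Over S} {M : Type} [AddCommMonoid M] {x y : T ⟶ Magnet.AMonS S M}
    (h : amFst x = amFst y) : x = y := by
  ext1
  apply pullback.hom_ext h
  exact (Over.w x).trans (Over.w y).symm

lemma amEquiv_naturality {T T' : Over S} (h : T' ⟶ T) {M : Type} [AddCommMonoid M]
    (χ : Multiplicative M →* Γ(T.left, ⊤)) :
    h ≫ amEquiv T M χ = amEquiv T' M ((h.left.appTop.hom : _ →* _).comp χ) := by
  apply am_ext
  rw [amFst_amEquiv, amFst_comp, amFst_amEquiv,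
    ← comp_charHom, Scheme.toSpecΓ_naturality_assoc]
  simp

/-- The character attached to a point -/
noncomputable def amChar {T : Over S} {M : Type} [AddCommMonoid M] (x : T ⟶ Magnet.AMonS S M) :
    Multiplicative M →* Γ(T.left, ⊤) := (amEquiv T M).symm x

lemma amChar_comp {T T' : Over S} (h : T' ⟶ T) {M : Type} [AddCommMonoid M] (x : T ⟶ Magnet.AMonS S M) :
    amChar (h ≫ x) = (h.left.appTop.hom : _ →* _).comp (amChar x) := by
  apply (amEquiv T' M).injective
  rw [← amEquiv_naturality]
  simp [amChar]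

@[simp]
lemma amEquiv_amChar {T : Over S} {M : Type} [AddCommMonoid M] (x : T ⟶ Magnet.AMonS S M) :
    amEquiv T M (amChar x) = x := by simp [amChar]

@[simp]
lemma amChar_amEquiv {T : Over S} {M : Type} [AddCommMonoid M] (χ : Multiplicative M →* Γ(T.left, ⊤)) :
    amChar (amEquiv T M χ) = χ := by simp [amChar]

lemma amChar_injective {T : Over S} {M : Type} [AddCommMonoid M] {x y : T ⟶ Magnet.AMonS S M}
    (h : amChar x = amChar y) : x = y := (amEquiv T M).symm.injective h

lemma amChar_mul {T : Over S} {M : Type} [AddCommMonoid M] (x y : T ⟶ Magnet.AMonS S M) :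
    amChar (x * y) = amChar x * amChar y := by simp [amChar]

lemma amChar_one {T : Over S} {M : Type} [AddCommMonoid M] :
    amChar (1 : T ⟶ Magnet.AMonS S M) = 1 := by simp [amChar]

lemma amFst_eq {T : Over S} {M : Type} [AddCommMonoid M] (x : T ⟶ Magnet.AMonS S M) :
    amFst x = T.left.toSpecΓ ≫ Spec.map (CommRingCat.ofHom (charHom (amChar x))) := by
  rw [← amFst_amEquiv, amEquiv_amChar]

lemma amMap_left_fst {M N : Type} [AddCommMonoid M] [AddCommMonoid N] (φ : M →+ N) :
    (Magnet.AMonS.map S φ).left ≫ pullback.fst (Magnet.AMon (ULift.{u, 0} ℤ) M).hom (specULiftZIsTerminal.from S) =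
      pullback.fst (Magnet.AMon (ULift.{u, 0} ℤ) N).hom (specULiftZIsTerminal.from S) ≫
      (Magnet.AMon.map (ULift.{u} ℤ) φ).left := by
  exact pullback.lift_fst _ _ _

lemma amFace_left_fst {M : Type} [AddCommMonoid M] {N F : AddSubmonoid M} (hF : Magnet.IsFace N F) :
    (Magnet.AMonS.faceMap S hF).left ≫
        pullback.fst (Magnet.AMon (ULift.{u, 0} ℤ) N).hom (specULiftZIsTerminal.from S) =
      pullback.fst (Magnet.AMon (ULift.{u, 0} ℤ) F).hom (specULiftZIsTerminal.from S) ≫
      (Magnet.AMon.faceMap (ULift.{u} ℤ) hF).left := by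
  exact pullback.lift_fst _ _ _

/-- `AMonS.map` on points -/
lemma amFst_map {T : Over S} {M N : Type} [AddCommMonoid M] [AddCommMonoid N] (φ : M →+ N)
    (x : T ⟶ Magnet.AMonS S N) :
    amFst (x ≫ Magnet.AMonS.map S φ) = amFst x ≫
      Spec.map (CommRingCat.ofHom
        (MonoidAlgebra.mapDomainBialgHom (ULift.{u} ℤ) (AddMonoidHom.toMultiplicative φ)).toAlgHom.toRingHom) := by
  refine (Category.assoc _ _ _).trans ?_
  refine (congr(x.left ≫ $(amMap_left_fst (S := S) φ))).trans ?_
  exact (Category.assoc _ _ _).symm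

lemma amEquiv_map {T : Over S} {M N : Type} [AddCommMonoid M] [AddCommMonoid N] (φ : M →+ N)
    (χ : Multiplicative N →* Γ(T.left, ⊤)) :
    amEquiv T N χ ≫ Magnet.AMonS.map S φ = amEquiv T M (χ.comp (AddMonoidHom.toMultiplicative φ)) := by
  apply am_ext
  rw [amFst_amEquiv, amFst_map, amFst_amEquiv, Category.assoc, ← Spec.map_comp,
    ← CommRingCat.ofHom_comp]
  congr 3
  apply monAlg_ringHom_ext
  intro m
  simp

lemma amChar_map {T : Over S} {M N : Type} [AddCommMonoid M] [AddCommMonoid N] (φ : M →+ N)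
    (x : T ⟶ Magnet.AMonS S N) :
    amChar (x ≫ Magnet.AMonS.map S φ) = (amChar x).comp (AddMonoidHom.toMultiplicative φ) := by
  apply (amEquiv T M).injective
  rw [← amEquiv_map]
  simp

/-- `AMonS.faceMap` on points -/
lemma amFst_face {T : Over S} {M : Type} [AddCommMonoid M] {N F : AddSubmonoid M} (hF : Magnet.IsFace N F)
    (x : T ⟶ Magnet.AMonS S F) :
    amFst (x ≫ Magnet.AMonS.faceMap S hF) = amFst x ≫
      Spec.map (CommRingCat.ofHom (Magnet.faceAlgHom (ULift.{u} ℤ) hF).toRingHom) := by
  refine (Category.assoc _ _ _).trans ?_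
  refine (congr(x.left ≫ $(amFace_left_fst (S := S) hF))).trans ?_
  exact (Category.assoc _ _ _).symm

open Classical in
/-- The extension by zero of a character of a face. -/
noncomputable def extZero {M : Type} [AddCommMonoid M] {N F : AddSubmonoid M} (hF : Magnet.IsFace N F)
    {E : Type u} [CommRing E] (χ : Multiplicative F →* E) : Multiplicative N →* E where
  toFun n := if h : ((Multiplicative.toAdd n : ↥N) : M) ∈ F then χ (Multiplicative.ofAdd (⟨_, h⟩ : ↥F)) else 0
  map_one' := by
    rw [dif_pos (show ((Multiplicative.toAdd (1 : Multiplicative ↥N) : ↥N) : M) ∈ F from F.zero_mem)]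
    exact map_one χ
  map_mul' a b := by
    by_cases ha : ((Multiplicative.toAdd a : ↥N) : M) ∈ F
    · by_cases hb : ((Multiplicative.toAdd b : ↥N) : M) ∈ F
      · have hab : ((Multiplicative.toAdd (a * b) : ↥N) : M) ∈ F := F.add_mem ha hb
        rw [dif_pos hab, dif_pos ha, dif_pos hb, ← map_mul]
        rfl
      · have hab : ¬ ((Multiplicative.toAdd (a * b) : ↥N) : M) ∈ F := fun h =>
          hb (hF.mem_of_add_mem _ (Multiplicative.toAdd a).2 _ (Multiplicative.toAdd b).2 h).2
        rw [dif_neg hab, dif_neg hb, mul_zero]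
    · have hab : ¬ ((Multiplicative.toAdd (a * b) : ↥N) : M) ∈ F := fun h =>
        ha (hF.mem_of_add_mem _ (Multiplicative.toAdd a).2 _ (Multiplicative.toAdd b).2 h).1
      rw [dif_neg hab, dif_neg ha, zero_mul]

lemma extZero_of_mem {M : Type} [AddCommMonoid M] {N F : AddSubmonoid M} (hF : Magnet.IsFace N F)
    {E : Type u} [CommRing E] (χ : Multiplicative F →* E) (n : ↥N) (h : (n : M) ∈ F) :
    extZero hF χ (Multiplicative.ofAdd n) = χ (Multiplicative.ofAdd (⟨n, h⟩ : ↥F)) :=
  dif_pos h

lemma extZero_of_not_mem {M : Type} [AddCommMonoid M] {N F : AddSubmonoid M} (hF : Magnet.IsFace N F)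
    {E : Type u} [CommRing E] (χ : Multiplicative F →* E) (n : ↥N) (h : (n : M) ∉ F) :
    extZero hF χ (Multiplicative.ofAdd n) = 0 :=
  dif_neg h

lemma charHom_comp_face {M : Type} [AddCommMonoid M] {N F : AddSubmonoid M} (hF : Magnet.IsFace N F)
    {E : Type u} [CommRing E] (χ : Multiplicative F →* E) :
    (charHom χ).comp (Magnet.faceAlgHom (ULift.{u} ℤ) hF).toRingHom = charHom (extZero hF χ) := by
  apply monAlg_ringHom_ext
  intro m
  by_cases hn : ((Multiplicative.toAdd m : ↥N) : M) ∈ F
  · have h1 := Magnet.faceAlgHom_single_of_mem (ULift.{u} ℤ) hF (Multiplicative.toAdd m) hn 1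
    have h2 := extZero_of_mem hF χ (Multiplicative.toAdd m) hn
    rw [charHom_single]
    refine Eq.trans ?_ h2.symm
    refine (congrArg (charHom χ) h1).trans ?_
    exact charHom_single _ _
  · have h1 := Magnet.faceAlgHom_single_of_not_mem (ULift.{u} ℤ) hF (Multiplicative.toAdd m) hn 1
    have h2 := extZero_of_not_mem hF χ (Multiplicative.toAdd m) hn
    rw [charHom_single]
    refine Eq.trans ?_ h2.symm
    refine (congrArg (charHom χ) h1).trans ?_
    exact map_zero _

/-- `AMonS.faceMap` on characters is extension by zero. -/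
lemma amChar_faceMap {T : Over S} {M : Type} [AddCommMonoid M] {N F : AddSubmonoid M} (hF : Magnet.IsFace N F)
    (x : T ⟶ Magnet.AMonS S F) :
    amChar (x ≫ Magnet.AMonS.faceMap S hF) = extZero hF (amChar x) := by
  apply (amEquiv T N).injective
  rw [amEquiv_amChar]
  apply am_ext
  rw [amFst_amEquiv, amFst_face, amFst_eq, Category.assoc, ← Spec.map_comp, ← CommRingCat.ofHom_comp,
    charHom_comp_face]

end

end K949.Pts
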