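import Groth.Agent.Magnet.K949.EqLift

/-!
# Lifting of equivariant morphisms out of `A(N)`
-/

set_option autoImplicit false
universe u
open CategoryTheory MonoidalCategory CartesianMonoidalCategory MonObj AlgebraicGeometry Limits Opposite

namespace K949.SmoothAttr

open K949.Pts K949.Chart K949.Thick K949.Fib K949.Avg K949.EqLift Magnet Magnet.MonAct

section General

variable {S : Scheme.{u}} {A B B' C : Type u} [CommRing A] [CommRing B] [CommRing B'] [CommRing C]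

theorem spec_square (f : A →+* B) (g : B →+* C) (f' : A →+* B') (g' : B' →+* C) (h : g.comp f = g'.comp f')
    (t : Spec (CommRingCat.of A) ⟶ S) :
    Spec.map (CommRingCat.ofHom g) ≫ Spec.map (CommRingCat.ofHom f) ≫ t =
      Spec.map (CommRingCat.ofHom g') ≫ Spec.map (CommRingCat.ofHom f') ≫ t := by
  rw [← Spec.map_comp_assoc, ← Spec.map_comp_assoc, ← CommRingCat.ofHom_comp, ← CommRingCat.ofHom_comp, h]

/-- An equality of structure morphisms as an isomorphism. -/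
noncomputable def isoOfEq {Z : Scheme.{u}} {s s' : Z ⟶ S} (h : s = s') : Over.mk s ≅ Over.mk s' :=
  Over.isoMk (Iso.refl _) ((Category.id_comp _).trans h.symm)

theorem isoOfEq_hom_left {Z : Scheme.{u}} {s s' : Z ⟶ S} (h : s = s') : (isoOfEq h).hom.left = 𝟙 _ := rfl

theorem comp_isoOfEq_left {W : Over S} {Z : Scheme.{u}} {s s' : Z ⟶ S} (h : s = s') (w : W ⟶ Over.mk s) :
    (w ≫ (isoOfEq h).hom).left = w.left := Category.comp_id _

theorem square_over {P P₀ : Over S} (i : P₀ ⟶ P) {Z Z₀ : Scheme.{u}} {s : Z ⟶ S} {s₀ : Z₀ ⟶ S} (j : Z₀ ⟶ Z)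
    (h : s₀ = j ≫ s) (e : P ⟶ Over.mk s) (e₀ : P₀ ⟶ Over.mk s₀) (hij : (i ≫ e).left = e₀.left ≫ j) :
    i ≫ e = (e₀ ≫ (isoOfEq h).hom) ≫ (Over.homMk j rfl : Over.mk (j ≫ s) ⟶ Over.mk s) := by
  ext1
  rw [hij, Over.comp_left, comp_isoOfEq_left]
  rfl

end General

section

variable {S : Scheme.{u}} {A A₀ : Type u} [CommRing A] [CommRing A₀] {φ : A →+* A₀}
  {t : Spec (CommRingCat.of A) ⟶ S}
  {B B₀ : Type u} [CommRing B] [CommRing B₀] [Algebra A B] [Algebra A₀ B₀] {M : Type} [AddCommGroup M]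

/-- Version of `exists_lift_of_iso` for algebras. -/
theorem exists_lift_aff (ψ : B →+* B₀) (hψ : Function.Surjective ψ) (hk : RingHom.ker ψ ^ 2 = ⊥)
    (hc : ψ.comp (algebraMap A B) = (algebraMap A₀ B₀).comp φ)
    {P P₀ X Y : Over S} (e : P ≅ aff t B)
    (e₀ : P₀ ≅ aff (Spec.map (CommRingCat.ofHom φ) ≫ t) B₀) (i : P₀ ⟶ P)
    (hi : (i ≫ e.hom).left = e₀.hom.left ≫ Spec.map (CommRingCat.ofHom ψ))
    (aP : MonAct (AMonS S M) P)
    (aX : MonAct (AMonS S M) X) (aY : MonAct (AMonS S M) Y) (f : X ⟶ Y) (hf : IsEquivariant aX aY f)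
    [Smooth f.left]
    (a₀ : AMonS S M ⊗ P₀ ⟶ P₀) (ha₀ : a₀ ≫ i = (AMonS S M ◁ i) ≫ aP.act)
    (x₀ : P₀ ⟶ X) (hx₀ : a₀ ≫ x₀ = (AMonS S M ◁ x₀) ≫ aX.act)
    (y : P ⟶ Y) (hy : IsEquivariant aP aY y) (h : i ≫ y = x₀ ≫ f) :
    ∃ l : P ⟶ X, IsEquivariant aP aX l ∧ i ≫ l = x₀ ∧ l ≫ f = y :=
  exists_lift_of_iso ψ hψ hk e (e₀ ≪≫ isoOfEq (spec_square _ _ _ _ hc.symm t)) i
    (square_over i (Spec.map (CommRingCat.ofHom ψ)) (spec_square _ _ _ _ hc.symm t) e.hom e₀.hom hi)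
    aP aX aY f hf a₀ ha₀ x₀ hx₀ y hy h

end

section

variable {S : Scheme.{u}} {A A₀ : Type u} [CommRing A] [CommRing A₀] (φ : A →+* A₀)

theorem mapRingHom_comp_algebraMap (N : Type) [AddCommMonoid N] :
    (MonoidAlgebra.mapRingHom (Multiplicative N) φ).comp (algebraMap A (MA A N)) =
    (algebraMap A₀ (MA A₀ N)).comp φ := by
  refine RingHom.ext fun a => ?_
  simp [MonoidAlgebra.coe_algebraMap]

variable {t : Spec (CommRingCat.of A) ⟶ S} {M : Type} [AddCommGroup M] (N : AddSubmonoid M)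

/-- Lifting of equivariant morphisms out of `A(N) ⊗ Spec A₀` to `A(N) ⊗ Spec A`. -/
theorem exists_lift (hφ : Function.Surjective φ) (hk : RingHom.ker φ ^ 2 = ⊥) {X Y : Over S}
    (aX : MonAct (AMonS S M) X) (aY : MonAct (AMonS S M) Y) (f : X ⟶ Y) (hf : IsEquivariant aX aY f)
    [Smooth f.left] (x : AMonS S N ⊗ Over.mk (Spec.map (CommRingCat.ofHom φ) ≫ t) ⟶ X)
    (hx : IsEquivariant ((subAct S M N).prod (trivial (AMonS S M) _)) aX x)
    (y : AMonS S N ⊗ Over.mk t ⟶ Y)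
    (hy : IsEquivariant ((subAct S M N).prod (trivial (AMonS S M) _)) aY y)
    (h : (AMonS S N ◁ ov φ t) ≫ y = x ≫ f) :
    ∃ l : AMonS S N ⊗ Over.mk t ⟶ X, IsEquivariant ((subAct S M N).prod (trivial (AMonS S M) _)) aX l ∧
      (AMonS S N ◁ ov φ t) ≫ l = x ∧ l ≫ f = y :=
  exists_lift_aff (MonoidAlgebra.mapRingHom (Multiplicative N) φ) (mapRingHom_surjective N φ hφ)
    (ker_mapRingHom_sq N φ hk) (mapRingHom_comp_algebraMap φ N) (chart t N)
    (chart (Spec.map (CommRingCat.ofHom φ) ≫ t) N) (AMonS S N ◁ ov φ t) (whisker_chart φ t N)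
    ((subAct S M N).prod (trivial (AMonS S M) _)) aX aY f hf _ (prod_trivial_act_whiskerLeft _ _) x hx y hy h

end

end K949.SmoothAttr
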