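import Groth.Agent.Magnet.K949.FaceLift
import Groth.Agent.Magnet.K949.Lfp
import Groth.Agent.Ega43.FPOfComp

/-!
# Smoothness of morphisms of schemes representing attractors
-/

set_option autoImplicit false
universe u
open CategoryTheory MonoidalCategory CartesianMonoidalCategory MonObj AlgebraicGeometry Limits Opposite

namespace K949.SmoothRep

open Magnet Magnet.MonAct

variable {S : Scheme.{u}}

theorem formallySmooth_of_represents {F G : (Over S)ᵒᵖ ⥤ Type u} (α : F ⟶ G) {ZF ZG : Over S}
    (eF : F.RepresentableBy ZF) (eG : G.RepresentableBy ZG) (j : ZF ⟶ ZG)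
    (hj : ∀ (T : Over S) (z : T ⟶ ZF), eG.homEquiv (z ≫ j) = α.app (op T) (eF.homEquiv z))
    (H : ∀ (A : Type u) [CommRing A] (I : Ideal A) (_ : I ^ 2 = ⊥) (str : Spec (CommRingCat.of A) ⟶ S)
      (x : F.obj (op (Over.mk (Spec.map (CommRingCat.ofHom (Ideal.Quotient.mk I)) ≫ str))))
      (y : G.obj (op (Over.mk str)))
      (_ : α.app _ x = G.map (Over.homMk (Spec.map (CommRingCat.ofHom (Ideal.Quotient.mk I))) rfl :
        Over.mk (Spec.map (CommRingCat.ofHom (Ideal.Quotient.mk I)) ≫ str) ⟶ Over.mk str).op y),
      ∃ l : F.obj (op (Over.mk str)),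
        F.map (Over.homMk (Spec.map (CommRingCat.ofHom (Ideal.Quotient.mk I))) rfl :
          Over.mk (Spec.map (CommRingCat.ofHom (Ideal.Quotient.mk I)) ≫ str) ⟶ Over.mk str).op l = x ∧
        α.app _ l = y) : MoreMor.IsFormallySmoothHom j.left := by
  intro A _ I hI a b hab
  let str : Spec (CommRingCat.of A) ⟶ S := b ≫ ZG.hom
  let i : Over.mk (Spec.map (CommRingCat.ofHom (Ideal.Quotient.mk I)) ≫ str) ⟶ Over.mk str :=
    Over.homMk (Spec.map (CommRingCat.ofHom (Ideal.Quotient.mk I))) rfl
  let b' : Over.mk str ⟶ ZG := Over.homMk b rfl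
  let a' : Over.mk (Spec.map (CommRingCat.ofHom (Ideal.Quotient.mk I)) ≫ str) ⟶ ZF := Over.homMk a (by
    change a ≫ ZF.hom = Spec.map _ ≫ b ≫ ZG.hom
    rw [← Over.w j, ← Category.assoc, ← Category.assoc, hab])
  have hab' : i ≫ b' = a' ≫ j := by ext1; exact hab
  obtain ⟨l, hl1, hl2⟩ := H A I hI str (eF.homEquiv a') (eG.homEquiv b') (by
    rw [← hj, ← hab', eG.homEquiv_comp])
  refine ⟨(eF.homEquiv.symm l).left, ?_, ?_⟩
  · have : i ≫ eF.homEquiv.symm l = a' := by
      apply eF.homEquiv.injective
      rw [eF.homEquiv_comp, Equiv.apply_symm_apply]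
      exact hl1
    exact congrArg (fun m => m.left) this
  · have : eF.homEquiv.symm l ≫ j = b' := by
      apply eG.homEquiv.injective
      rw [hj, Equiv.apply_symm_apply, hl2]
    exact congrArg (fun m => m.left) this

section

variable {M : Type} [AddCommMonoid M]

/-- The attractor of the final object is represented by the final object. -/
noncomputable def representableByUnit (N : AddSubmonoid M) :
    (attr (trivial (AMonS S M) (𝟙_ (Over S))) N).RepresentableBy (𝟙_ (Over S)) where
  homEquiv {T} :=
    { toFun := fun _ => ⟨toUnit _, toUnit_unique _ _⟩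
      invFun := fun _ => toUnit _
      left_inv := fun _ => toUnit_unique _ _
      right_inv := fun _ => Subtype.ext (toUnit_unique _ _) }
  homEquiv_comp _ _ := Subtype.ext (toUnit_unique _ _)

theorem toUnit_left (X : Over S) : (toUnit X).left = X.hom :=
  (Category.comp_id _).symm.trans (Over.w (toUnit X))

/-- An object representing the attractor of an action on `X` locally of finite presentation is locally of finite
presentation. -/
theorem lfp_hom_of_represents (N : AddSubmonoid M) {X : Over S} [h : LocallyOfFinitePresentation X.hom]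
    (a : MonAct (AMonS S M) X) {Z : Over S} (e : (attr a N).RepresentableBy Z) :
    LocallyOfFinitePresentation Z.hom := by
  have h1 : LocallyOfFinitePresentation (toUnit X).left := by rw [toUnit_left]; exact h
  have h2 := K949.Lfp.lfp_of_represents N a (trivial (AMonS S M) (𝟙_ (Over S))) (toUnit X)
    (K949.FaceLift.equivariant_toUnit a) e (representableByUnit N) (toUnit Z)
    (fun T z => Subtype.ext (toUnit_unique _ _))
  rw [toUnit_left] at h2
  exact h2

/-- The morphism of representing objects attached to a face is locally of finite presentation. -/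
theorem lfp_face {N F : AddSubmonoid M} (hF : IsFace N F) {X : Over S} [h : LocallyOfFinitePresentation X.hom]
    (a : MonAct (AMonS S M) X) {ZN ZF : Over S} (eN : (attr a N).RepresentableBy ZN)
    (eF : (attr a F).RepresentableBy ZF) (j : ZN ⟶ ZF) : LocallyOfFinitePresentation j.left := by
  have h1 : LocallyOfFinitePresentation ZN.hom := lfp_hom_of_represents N a eN
  have h2 : LocallyOfFinitePresentation ZF.hom := lfp_hom_of_represents F a eF
  have h3 : LocallyOfFinitePresentation (j.left ≫ ZF.hom) := by rw [Over.w j]; exact h1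
  exact Groth.Agent.Ega43.FPOfComp.locallyOfFinitePresentation_of_comp j.left ZF.hom

end

end K949.SmoothRep
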