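import Groth.Agent.Magnet.K949.Thick

/-!
# `f^N` is formally unramified if `f` is
-/

set_option autoImplicit false
universe u
open CategoryTheory MonoidalCategory CartesianMonoidalCategory MonObj AlgebraicGeometry Limits Opposite

namespace K949.Unram

open K949.Pts K949.Chart K949.Thick Magnet Magnet.MonAct

variable {S : Scheme.{u}} {A A' : Type u} [CommRing A] [CommRing A'] (φ : A →+* A') (t : Spec (CommRingCat.of A) ⟶ S)

theorem specMap_chart_inv (N : Type) [AddCommMonoid N] :
    Spec.map (CommRingCat.ofHom (MonoidAlgebra.mapRingHom (Multiplicative N) φ)) ≫ (chart t N).inv.left =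
      (chart (Spec.map (CommRingCat.ofHom φ) ≫ t) N).inv.left ≫ (Magnet.AMonS S N ◁ ov φ t).left := by
  have h := whisker_chart φ t N
  have h1 : (chart (Spec.map (CommRingCat.ofHom φ) ≫ t) N).inv.left ≫
      (chart (Spec.map (CommRingCat.ofHom φ) ≫ t) N).hom.left = 𝟙 _ := by
    rw [← Over.comp_left, Iso.inv_hom_id]; rfl
  have h2 : (chart t N).hom.left ≫ (chart t N).inv.left = 𝟙 _ := by
    rw [← Over.comp_left, Iso.hom_inv_id]; rfl
  have h3 : Spec.map (CommRingCat.ofHom (MonoidAlgebra.mapRingHom (Multiplicative N) φ)) =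
      (chart (Spec.map (CommRingCat.ofHom φ) ≫ t) N).inv.left ≫
        ((Magnet.AMonS S N ◁ ov φ t) ≫ (chart t N).hom).left := by
    rw [h, reassoc_of% h1]
  rw [h3, Over.comp_left, Category.assoc, Category.assoc, h2]
  exact congrArg _ (Category.comp_id _)

variable {M : Type} [AddCommMonoid M] (N : AddSubmonoid M) {X Y : Over S} (aX : MonAct (AMonS S M) X)
  (aY : MonAct (AMonS S M) Y) (f : X ⟶ Y) (hf : IsEquivariant aX aY f)

theorem attr_unram [FormallyUnramified f.left] (hφ : Function.Surjective φ) (hk : RingHom.ker φ ^ 2 = ⊥)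
    (l₁ l₂ : (attr aX N).obj (op (Over.mk t)))
    (htop : (attr aX N).map (ov φ t).op l₁ = (attr aX N).map (ov φ t).op l₂)
    (hbot : (eqvHom.postcomp (subAct S M N) f hf).app _ l₁ = (eqvHom.postcomp (subAct S M N) f hf).app _ l₂) :
    l₁ = l₂ := by
  apply Subtype.ext
  have e1 : (AMonS S N ◁ ov φ t) ≫ l₁.1 = (AMonS S N ◁ ov φ t) ≫ l₂.1 := congrArg Subtype.val htop
  have e2 : l₁.1 ≫ f = l₂.1 ≫ f := congrArg Subtype.val hbot
  rw [← cancel_epi (chart t N).inv]
  ext1
  refine hom_ext_spec f.left (MonoidAlgebra.mapRingHom (Multiplicative N) φ) (mapRingHom_surjective N φ hφ)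
    (ker_mapRingHom_sq N φ hk) ?_ ?_
  · have e3 := congr(($e1).left)
    rw [Over.comp_left, Over.comp_left] at e3
    rw [Over.comp_left, Over.comp_left, ← Category.assoc, ← Category.assoc, specMap_chart_inv, Category.assoc,
      Category.assoc]
    exact congrArg _ e3
  · have e3 := congr(((chart t N).inv ≫ $e2).left)
    exact e3

theorem formallyUnramified_of_represents [FormallyUnramified f.left] {ZX ZY : Over S}
    (eX : (attr aX N).RepresentableBy ZX) (eY : (attr aY N).RepresentableBy ZY)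
    (j : ZX ⟶ ZY) (hj : ∀ (T : Over S) (z : T ⟶ ZX),
      eY.homEquiv (z ≫ j) = (eqvHom.postcomp (subAct S M N) f hf).app (op T) (eX.homEquiv z)) :
    FormallyUnramified j.left := by
  refine FormallyUnramified.of_hom_ext _ ?_
  intro R R' ψ hψ hk g₁ g₂ h1 h2
  have h3 : g₂ ≫ ZX.hom = g₁ ≫ ZX.hom := by
    rw [← Over.w j, reassoc_of% h2]
  let t : Spec (CommRingCat.of R) ⟶ S := g₁ ≫ ZX.hom
  let z₁ : Over.mk t ⟶ ZX := Over.homMk g₁ rfl
  let z₂ : Over.mk t ⟶ ZX := Over.homMk g₂ h3
  have key : eX.homEquiv z₁ = eX.homEquiv z₂ := by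
    refine attr_unram ψ.hom t N aX aY f hf hψ hk _ _ ?_ ?_
    · rw [← eX.homEquiv_comp, ← eX.homEquiv_comp]
      congr 1
      ext1
      exact h1
    · rw [← hj, ← hj]
      congr 1
      ext1
      exact h2
  have h4 := eX.homEquiv.injective key
  exact congr(($h4).left)

end K949.Unram
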